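import Cfsg.Agent.H27.Fi23Max.Series
import Cfsg.Agent.S0144
import Mathlib.GroupTheory.GroupAction.Quotient

/-!
The order of the stabiliser has no prime divisors but two and three.
-/

set_option autoImplicit false
set_option maxRecDepth 100000

namespace Cfsg.Agent.H27.Fi23Max

open Cfsg.Agent.H25.Fi23 hiding H
open Cfsg.Agent.H45 (cget)

/-- products of powers of two and three -/
def Smooth (n : ℕ) : Prop := ∃ a b, n = 2 ^ a * 3 ^ b

theorem Smooth.mul {m n : ℕ} (hm : Smooth m) (hn : Smooth n) : Smooth (m * n) := by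
  obtain ⟨a, b, rfl⟩ := hm
  obtain ⟨c, e, rfl⟩ := hn
  exact ⟨a + c, b + e, by rw [pow_add, pow_add]; ring⟩

theorem bases_eq : bases = [0, 492, 105, 630, 3, 6527, 6543, 490, 7] := by decide

theorem incr_pair : ∀ {l : List ℕ}, incr l = true → l.Pairwise (· < ·) := by
  intro l h
  rw [← List.isChain_iff_pairwise]
  induction l with
  | nil => exact .nil
  | cons a l ih =>
    cases l with
    | nil => exact .singleton a
    | cons b l =>
      simp only [incr, Bool.and_eq_true, Nat.blt_eq] at h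
      exact List.IsChain.cons_cons h.1 (ih h.2)

namespace Mdl

variable (M : Mdl)

/-- the action on numbers -/
@[reducible] noncomputable def mulAct : MulAction X ℕ where
  smul g i := M.ap g i
  one_smul i := M.ap_one i
  mul_smul g h i := M.ap_mul g h i

/-- elements of the stabiliser fixing some points -/
noncomputable def fixN (l : List ℕ) : Subgroup X where
  carrier := {g | g ∈ M.N ∧ ∀ b ∈ l, M.ap g b = b}
  one_mem' := ⟨M.N.one_mem, fun b _ => M.ap_one b⟩
  mul_mem' {g h} hg hh := ⟨M.N.mul_mem hg.1 hh.1, fun b hb => by rw [ap_mul, hh.2 b hb, hg.2 b hb]⟩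
  inv_mem' {g} hg := ⟨M.N.inv_mem hg.1, fun b hb => by
    conv_lhs => rw [← hg.2 b hb]
    exact M.ap_inv_ap g b⟩

theorem fixN_nil : M.fixN [] = M.N := by
  ext g
  exact ⟨fun h => h.1, fun h => ⟨h, fun b hb => by simp at hb⟩⟩

theorem card_step (l : List ℕ) (p : ℕ) : Nat.card (M.fixN l) =
    {q | ∃ g ∈ M.fixN l, M.ap g p = q}.ncard * Nat.card (M.fixN (l ++ [p])) := by
  letI := M.mulAct
  have h := Subgroup.index_mul_card (MulAction.stabilizer (M.fixN l) p)
  rw [MulAction.index_stabilizer] at h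
  have e1 : MulAction.orbit (M.fixN l) p = {q | ∃ g ∈ M.fixN l, M.ap g p = q} := by
    ext q
    exact ⟨fun ⟨⟨g, hg⟩, e⟩ => ⟨g, hg, e⟩, fun ⟨g, hg, e⟩ => ⟨⟨g, hg⟩, e⟩⟩
  rw [e1] at h
  rw [← h]
  congr 1
  refine Nat.card_congr ⟨fun g => ⟨g.1.1, g.1.2.1, fun b hb => ?_⟩,
    fun g => ⟨⟨g.1, g.2.1, fun b hb => g.2.2 b (List.mem_append_left _ hb)⟩,
      g.2.2 p (List.mem_append_right _ (List.mem_singleton.mpr rfl))⟩, fun _ => rfl, fun _ => rfl⟩
  rcases List.mem_append.mp hb with hb | hb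
  · exact g.1.2.2 b hb
  · rw [List.mem_singleton.mp hb]; exact g.2

theorem fix_bases {c : X} (hc : c ∈ M.fixN bases) : c = 1 := M.eq_one_of_bases hc.2

theorem ev_fix {i k : ℕ} (hk : k < hOps.length) (hi : i < 5)
    (hfix : ∀ b ∈ bIdx.take i, cget (hTabs.getD k 0) b = b) :
    ev hOps hOps.length k ∈ M.fixN (bases.take i) := by
  obtain ⟨hT, hD⟩ := M.hOps_spec hk
  refine ⟨M.DS_le _ hD, fun q hq => ?_⟩
  obtain ⟨j, hj, rfl⟩ : ∃ j, j < i ∧ bases.getD j 0 = q := by
    rw [List.mem_iff_getElem] at hq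
    obtain ⟨j, hj, e⟩ := hq
    rw [List.length_take] at hj
    exact ⟨j, by omega, by rw [← e, List.getElem_take, List.getD_eq_getElem]⟩
  have hb := List.all_eq_true.mp base_ok j (List.mem_range.mpr (by omega))
  simp only [Bool.and_eq_true, Nat.beq_eq, Nat.blt_eq] at hb
  rw [← hb.1.1, (hT _ hb.1.2).2, hfix]
  rw [List.mem_iff_getElem]
  have hlen : bIdx.length = 5 := rfl
  exact ⟨j, by rw [List.length_take, hlen]; omega,
    by rw [List.getElem_take, List.getD_eq_getElem]⟩

theorem stepsOK_sound {i : ℕ} (hi : i < 5) : ∀ {l : List (ℕ × ℕ × ℕ)} {known : List ℕ},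
    stepsOK i l known = true →
    (∀ k ∈ known, k < 324 ∧ ∃ g ∈ M.fixN (bases.take i), M.ap g (bases.getD i 0) = fI k) →
    ∀ k ∈ fCand.getD i [], k < 324 ∧ ∃ g ∈ M.fixN (bases.take i), M.ap g (bases.getD i 0) = fI k := by
  intro l
  induction l with
  | nil =>
    intro known h hk k hkm
    simp only [stepsOK, List.all_eq_true] at h
    exact hk k (any_beq.mp (h k hkm))
  | cons e l ih =>
    obtain ⟨x, g, y⟩ := e
    intro known h hk
    simp only [stepsOK, Bool.and_eq_true, any_beq, Nat.blt_eq, Nat.beq_eq, List.all_eq_true] at h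
    obtain ⟨⟨⟨⟨hx, hg⟩, hfix⟩, hy⟩, hl⟩ := h
    obtain ⟨hx3, u, hu, eu⟩ := hk x hx
    obtain ⟨hT, -⟩ := M.hOps_spec hg
    refine ih hl (List.forall_mem_cons.mpr ⟨⟨hy ▸ (hT x hx3).1, _,
      Subgroup.mul_mem _ (M.ev_fix hg hi hfix) hu, ?_⟩, hk⟩)
    rw [ap_mul, eu, (hT x hx3).2, hy]

theorem orbit_in {i : ℕ} (hi : i < 5) : {q | ∃ g ∈ M.fixN (bases.take i), M.ap g (bases.getD i 0) = q}
    = ↑((fCand.getD i []).map fI).toFinset := by
  have hf := List.all_eq_true.mp fCand_ok i (List.mem_range.mpr hi)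
  have hb := List.all_eq_true.mp base_ok i (List.mem_range.mpr hi)
  simp only [Bool.and_eq_true, Nat.beq_eq, Nat.blt_eq, List.all_eq_true, beq_iff_eq,
    List.mem_range, Bool.or_eq_true, Bool.not_eq_true'] at hf hb
  obtain ⟨⟨⟨hfst, -⟩, hlt⟩, hcand⟩ := hf
  ext q
  simp only [Set.mem_ofPred_eq, List.coe_toFinset, List.mem_map]
  constructor
  · rintro ⟨g, hg, rfl⟩
    obtain ⟨k, hk, e⟩ := M.inF_iff.mp (M.N_inF hg.1 (hb.1.1 ▸ fI_spec hb.1.2))
    refine ⟨k, ?_, e⟩
    have hgood : ∀ e ∈ fPatW.getD i [], good e.1 e.2.1 = true := by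
      have hp := List.all_eq_true.mp pat_good (fPatW.getD i []) (List.mem_append_left _ ?_)
      · exact List.all_eq_true.mp hp
      · interval_cases i <;> simp [fPatW]
    have hm := M.match_ap hgood (fun e he => hg.2 _ (hfst ▸ List.mem_map_of_mem he))
      (hb.1.1 ▸ (fI_spec hb.1.2).1) hb.2
    rw [← e] at hm
    rcases hcand k hk with h | h
    · rw [hm] at h; exact absurd h Bool.noConfusion
    · exact any_beq.mp h
  · rintro ⟨k, hk, rfl⟩
    have h := List.all_eq_true.mp orbit_ok i (List.mem_range.mpr hi)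
    exact (M.stepsOK_sound hi h (by
      intro k hk
      rw [List.mem_singleton.mp hk]
      exact ⟨hb.1.2, 1, Subgroup.one_mem _, by rw [ap_one, hb.1.1]⟩) k hk).2

theorem inner_smooth {i : ℕ} (hi : i < 5) :
    Smooth {q | ∃ g ∈ M.fixN (bases.take i), M.ap g (bases.getD i 0) = q}.ncard := by
  have hf := List.all_eq_true.mp fCand_ok i (List.mem_range.mpr hi)
  simp only [Bool.and_eq_true] at hf
  rw [M.orbit_in hi, Set.ncard_coe_finset, List.toFinset_card_of_nodup
    ((incr_pair hf.1.1.2).imp fun h => ne_of_lt h), List.length_map]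
  interval_cases i
  · exact ⟨2, 4, rfl⟩
  · exact ⟨0, 3, rfl⟩
  · exact ⟨5, 2, rfl⟩
  · exact ⟨1, 2, rfl⟩
  · exact ⟨3, 0, rfl⟩

theorem cand_image {i : ℕ} (hi : i < 5) {g : X} (hgN : g ∈ M.N)
    (hfix : ∀ b ∈ (oPatW.getD i []).map Prod.fst, M.ap g b = b) :
    M.ap g ((bases.drop 5 ++ [4287]).getD i 0) ∈ oCand.getD i [] := by
  have ho := List.all_eq_true.mp out_ok i (List.mem_range.mpr hi)
  simp only [Bool.and_eq_true, decide_eq_true_eq, Nat.blt_eq] at ho
  obtain ⟨⟨⟨⟨-, hm⟩, hne⟩, hlt⟩, -⟩ := ho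
  have hgood : ∀ e ∈ oPatW.getD i [], good e.1 e.2.1 = true := by
    have hp := List.all_eq_true.mp pat_good (oPatW.getD i []) (List.mem_append_right _ ?_)
    · exact List.all_eq_true.mp hp
    · interval_cases i <;> simp [oPatW]
  refine cand_spec (M.ap_lt g hlt) (fun h => hne ((hgN _ hlt).mp h)) hi ?_
  exact M.match_ap hgood (fun e he => hfix _ (List.mem_map_of_mem he)) hlt hm

theorem outer_smooth {i : ℕ} (hi : i < 4) :
    Smooth {q | ∃ g ∈ M.fixN (bases.take (5 + i)), M.ap g (bases.getD (5 + i) 0) = q}.ncard := by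
  set O := {q | ∃ g ∈ M.fixN (bases.take (5 + i)), M.ap g (bases.getD (5 + i) 0) = q}
  have hfst : (oPatW.getD i []).map Prod.fst = bases.take (5 + i) := by
    interval_cases i <;> rfl
  have hel : (bases.drop 5 ++ [4287]).getD i 0 = bases.getD (5 + i) 0 := by
    interval_cases i <;> rfl
  have hsub : O ⊆ ↑(oCand.getD i []).toFinset := by
    rintro q ⟨g, hg, rfl⟩
    rw [List.coe_toFinset, ← hel]
    exact M.cand_image (by omega) hg.1 (hfst ▸ hg.2)
  have h3 : O.ncard ≤ 3 := by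
    refine le_trans (Set.ncard_le_ncard hsub (Finset.finite_toSet _)) ?_
    rw [Set.ncard_coe_finset]
    refine le_trans (List.toFinset_card_le _) ?_
    interval_cases i <;> decide
  have h1 : O.ncard ≠ 0 := by
    rw [Ne, Set.ncard_eq_zero ((Finset.finite_toSet _).subset hsub)]
    exact Set.nonempty_iff_ne_empty.mp ⟨_, 1, Subgroup.one_mem _, M.ap_one _⟩
  interval_cases hn : O.ncard
  · exact absurd rfl h1
  · exact ⟨0, 0, rfl⟩
  · exact ⟨1, 0, rfl⟩
  · exact ⟨0, 1, rfl⟩

theorem smooth_fix : ∀ j, j ≤ 9 → Smooth (Nat.card (M.fixN (bases.take (9 - j)))) := by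
  intro j
  induction j with
  | zero =>
    intro _
    have e : M.fixN (bases.take 9) = ⊥ := by
      rw [Subgroup.eq_bot_iff_forall]
      exact fun c hc => M.fix_bases hc
    exact ⟨0, 0, by rw [Nat.sub_zero, e, Subgroup.card_bot]; rfl⟩
  | succ j ih =>
    intro hj
    set i := 9 - (j + 1) with hi
    have hi9 : i < bases.length := by rw [show bases.length = 9 from rfl]; omega
    have e : bases.take (9 - j) = bases.take i ++ [bases.getD i 0] := by
      rw [show 9 - j = i + 1 by omega, List.take_succ_eq_append_getElem hi9,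
        List.getD_eq_getElem]
    rw [M.card_step _ (bases.getD i 0), ← e]
    refine Smooth.mul ?_ (ih (by omega))
    by_cases h5 : i < 5
    · exact M.inner_smooth h5
    · have h := M.outer_smooth (i := i - 5) (by omega)
      rwa [show 5 + (i - 5) = i by omega] at h

theorem solvable_N : Group.IsSolvable M.N := by
  obtain ⟨a, b, h⟩ := M.smooth_fix 9 le_rfl
  rw [Nat.sub_self, List.take_zero, fixN_nil] at h
  have := finite_X
  exact Cfsg.Agent.S0144.result 2 3 a b Nat.prime_two Nat.prime_three h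

end Mdl

end Cfsg.Agent.H27.Fi23Max
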