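import Cfsg.Agent.H27.Fi23Max.Data
import Cfsg.Agent.H27.Fi23Max.Forest

/-!
Checks on the generated data of a maximal subgroup of `Fi₂₃`.
-/

set_option autoImplicit false
set_option maxRecDepth 100000
set_option Elab.async false

namespace Cfsg.Agent.H27.Fi23Max

open Cfsg.Agent.H25.Fi23
open Cfsg.Agent.H45 (force force_eq cget)

/-- the table -/
local notation "TT" => C31671.cert.t

/-- the action of the transposition given by a word -/
noncomputable def tf (w : List ℕ) (i : ℕ) : ℕ :=
  force (walkV TT w i) fun a => force (uget C31671.colZ a) fun b => walkV TT w.reverse b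

theorem tf_eq (w : List ℕ) (i : ℕ) :
    tf w i = walkV TT w.reverse (uget C31671.colZ (walkV TT w i)) := by
  simp only [tf, force_eq]

/-- the word of a special point -/
def wd (p : ℕ) : List ℕ := ((ptWords.find? fun e => Nat.beq e.1 p).map Prod.snd).getD []

/-- a word reaches its point -/
noncomputable def good (p : ℕ) (w : List ℕ) : Bool :=
  w.all (fun l => Nat.blt l 10) && Nat.blt p 31671 && Nat.beq (walkV TT w.reverse 0) p

/-- an index of the set as a point -/
def fI (i : ℕ) : ℕ := cget fTab i

/-- the label of a point -/
noncomputable def labOf (q : ℕ) : ℕ := force (uget colB q) fun b => Nat.land (Nat.shiftRight b 3) 7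

/-- the depth of a point -/
noncomputable def depOf (q : ℕ) : ℕ := force (uget colB q) fun b => Nat.shiftRight b 6

/-- the step of a point -/
noncomputable def genOf (q : ℕ) : ℕ := force (uget colB q) fun b => Nat.land b 7

/-- one point of the forest -/
noncomputable def forestOK (q : ℕ) : Bool :=
  force (uget colA q) fun p => andB (Nat.blt (labOf q) 6)
    (ifB (Nat.beq (depOf q) 0) (Nat.beq (reps.getD (labOf q) 99999) q)
      (andB (Nat.blt p 31671) (andB (Nat.blt (genOf q) 7)
        (andB (Nat.beq (labOf p) (labOf q)) (andB (Nat.blt (depOf p) (depOf q))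
          (Nat.beq (tf (lWords.getD (genOf q) []) p) q))))))

/-- a point has a pattern -/
noncomputable def matchP : List (ℕ × List ℕ × Bool) → ℕ → Bool
  | [], _ => true
  | (p, w, c) :: l, x =>
      ifB (Nat.beq x p) false (ifB (Nat.beq (tf w x) x) (ifB c (matchP l x) false)
        (ifB c false (matchP l x)))

/-- candidates outside the set -/
noncomputable def candOK (q : ℕ) : Bool :=
  ifB (Nat.beq (labOf q) 0) true
    ((List.range 5).all fun i =>
      ifB (matchP (oPatW.getD i []) q) ((oCand.getD i []).any (Nat.beq q)) true)

/-- the scan of one point -/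
noncomputable def scanOK (q : ℕ) : Bool := andB (forestOK q) (candOK q)

/-- increasing lists -/
def incr : List ℕ → Bool
  | a :: b :: l => Nat.blt a b && incr (b :: l)
  | _ => true

/-- the action of a product of transpositions, applied in order -/
noncomputable def apW : List (List ℕ) → ℕ → ℕ
  | [], p => p
  | w :: l, p => force (tf w p) fun q => apW l q

/-- the generators as lists of words -/
def gWs (g : ℕ) : List (List ℕ) := gWords.getD g []

/-- a packed table is a map of the set -/
def tabLt (T : ℕ) : Bool := (List.range 324).all fun i => Nat.blt (cget T i) 324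

/-- one table of a generator -/
noncomputable def gTabOK (g : ℕ) : Bool :=
  tabLt (gTabs.getD g 0) && (List.range 324).all fun i =>
    Nat.beq (apW (gWs g) (fI i)) (fI (cget (gTabs.getD g 0) i))

/-- the tables of operations agree -/
def opsOK (gs : List ℕ) (ops : List (ℕ × ℕ × ℕ)) (tabs : List ℕ) : Bool :=
  Nat.beq ops.length tabs.length && (List.range ops.length).all fun k =>
    let o := ops.getD k (0, 0, 0)
    let T := tabs.getD k 0
    tabLt T && match o.1 with
      | 0 => Nat.blt o.2.1 gs.length && Nat.beq T (gs.getD o.2.1 0)
      | 1 => Nat.blt o.2.1 k && Nat.blt o.2.2 k && (List.range 324).all fun i =>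
          Nat.beq (cget T i) (cget (tabs.getD o.2.2 0) (cget (tabs.getD o.2.1 0) i))
      | 2 => Nat.blt o.2.1 k && (List.range 324).all fun i =>
          Nat.beq (cget (tabs.getD o.2.1 0) (cget T i)) i
      | _ => Nat.blt o.2.1 k && Nat.blt o.2.2 k && (List.range 324).all fun i =>
          Nat.beq (cget T (cget (tabs.getD o.2.2 0) (cget (tabs.getD o.2.1 0) i)))
            (cget (tabs.getD o.2.1 0) (cget (tabs.getD o.2.2 0) i))

/-- the depth in the derived series -/
def lvl (ops : List (ℕ × ℕ × ℕ)) : ℕ → ℕ → ℕ
  | 0, _ => 0
  | f + 1, k =>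
    match (ops.getD k (0, 0, 0)).1 with
      | 0 => 0
      | 1 => min (lvl ops f (ops.getD k (0, 0, 0)).2.1) (lvl ops f (ops.getD k (0, 0, 0)).2.2)
      | 2 => lvl ops f (ops.getD k (0, 0, 0)).2.1
      | _ => min (lvl ops f (ops.getD k (0, 0, 0)).2.1) (lvl ops f (ops.getD k (0, 0, 0)).2.2) + 1

/-- the parities agree -/
def parOK (ops : List (ℕ × ℕ × ℕ)) (par : List Bool) : Bool :=
  (List.range ops.length).all fun k =>
    let o := ops.getD k (0, 0, 0)
    par.getD k false == match o.1 with
      | 0 => true
      | 1 => xor (par.getD o.2.1 false) (par.getD o.2.2 false)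
      | 2 => par.getD o.2.1 false
      | _ => false

/-- the value of an element at a point, `i` for the inverse -/
noncomputable def evP (ops : List (ℕ × ℕ × ℕ)) : ℕ → ℕ → Bool → ℕ → ℕ
  | 0, _, _, p => p
  | f + 1, k, i, p =>
    let o := ops.getD k (0, 0, 0)
    match o.1 with
      | 0 => tf (lWords.getD o.2.1 []) p
      | 1 => ifB i (force (evP ops f o.2.2 i p) fun q => evP ops f o.2.1 i q)
          (force (evP ops f o.2.1 i p) fun q => evP ops f o.2.2 i q)
      | 2 => evP ops f o.2.1 (!i) p
      | _ => ifB i
          (force (evP ops f o.2.1 true p) fun q => force (evP ops f o.2.2 true q) fun r =>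
            force (evP ops f o.2.1 false r) fun s => evP ops f o.2.2 false s)
          (force (evP ops f o.2.2 true p) fun q => force (evP ops f o.2.1 true q) fun r =>
            force (evP ops f o.2.2 false r) fun s => evP ops f o.2.1 false s)

/-- conjugation steps from seeds -/
noncomputable def derOK : List (ℕ × ℕ × ℕ) → List ℕ → List ℕ → Bool
  | [], known, want => want.all fun t => known.any (Nat.beq t)
  | (a, b, q) :: l, known, want =>
      known.any (Nat.beq a) && known.any (Nat.beq b) && good a (wd a) &&
        Nat.beq (tf (wd a) b) q && derOK l (q :: known) want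

end Cfsg.Agent.H27.Fi23Max
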