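import Cfsg.Agent.H27.Fi23Max.Check

/-!
Generated checks of the points from 0 to 8000.
-/

set_option autoImplicit false
set_option maxRecDepth 100000
set_option Elab.async false

namespace Cfsg.Agent.H27.Fi23Max

open Cfsg.Agent.H25.Fi23

theorem scan0 : allFrom scanOK 1000 0 = true := by decide +kernel

theorem scan1000 : allFrom scanOK 1000 1000 = true := by decide +kernel

theorem scan2000 : allFrom scanOK 1000 2000 = true := by decide +kernel

theorem scan3000 : allFrom scanOK 1000 3000 = true := by decide +kernel

theorem scan4000 : allFrom scanOK 1000 4000 = true := by decide +kernel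

theorem scan5000 : allFrom scanOK 1000 5000 = true := by decide +kernel

theorem scan6000 : allFrom scanOK 1000 6000 = true := by decide +kernel

theorem scan7000 : allFrom scanOK 1000 7000 = true := by decide +kernel

theorem scanRange0 : ∀ i, 0 ≤ i → i < 8000 → scanOK i = true := by
  intro i h1 h2
  by_cases c0 : i < 1000
  · exact allFrom_sound scan0 i (by omega) (by omega)
  by_cases c1000 : i < 2000
  · exact allFrom_sound scan1000 i (by omega) (by omega)
  by_cases c2000 : i < 3000
  · exact allFrom_sound scan2000 i (by omega) (by omega)
  by_cases c3000 : i < 4000
  · exact allFrom_sound scan3000 i (by omega) (by omega)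
  by_cases c4000 : i < 5000
  · exact allFrom_sound scan4000 i (by omega) (by omega)
  by_cases c5000 : i < 6000
  · exact allFrom_sound scan5000 i (by omega) (by omega)
  by_cases c6000 : i < 7000
  · exact allFrom_sound scan6000 i (by omega) (by omega)
  exact allFrom_sound scan7000 i (by omega) (by omega)

end Cfsg.Agent.H27.Fi23Max
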