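import Cfsg.Agent.H27.Fi23Max.Check

/-!
Generated checks of the points from 8000 to 16000.
-/

set_option autoImplicit false
set_option maxRecDepth 100000
set_option Elab.async false

namespace Cfsg.Agent.H27.Fi23Max

open Cfsg.Agent.H25.Fi23

theorem scan8000 : allFrom scanOK 1000 8000 = true := by decide +kernel

theorem scan9000 : allFrom scanOK 1000 9000 = true := by decide +kernel

theorem scan10000 : allFrom scanOK 1000 10000 = true := by decide +kernel

theorem scan11000 : allFrom scanOK 1000 11000 = true := by decide +kernel

theorem scan12000 : allFrom scanOK 1000 12000 = true := by decide +kernel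

theorem scan13000 : allFrom scanOK 1000 13000 = true := by decide +kernel

theorem scan14000 : allFrom scanOK 1000 14000 = true := by decide +kernel

theorem scan15000 : allFrom scanOK 1000 15000 = true := by decide +kernel

theorem scanRange1 : ∀ i, 8000 ≤ i → i < 16000 → scanOK i = true := by
  intro i h1 h2
  by_cases c8000 : i < 9000
  · exact allFrom_sound scan8000 i (by omega) (by omega)
  by_cases c9000 : i < 10000
  · exact allFrom_sound scan9000 i (by omega) (by omega)
  by_cases c10000 : i < 11000
  · exact allFrom_sound scan10000 i (by omega) (by omega)
  by_cases c11000 : i < 12000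
  · exact allFrom_sound scan11000 i (by omega) (by omega)
  by_cases c12000 : i < 13000
  · exact allFrom_sound scan12000 i (by omega) (by omega)
  by_cases c13000 : i < 14000
  · exact allFrom_sound scan13000 i (by omega) (by omega)
  by_cases c14000 : i < 15000
  · exact allFrom_sound scan14000 i (by omega) (by omega)
  exact allFrom_sound scan15000 i (by omega) (by omega)

end Cfsg.Agent.H27.Fi23Max
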