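import Cfsg.Agent.H27.Fi23Max.Check

/-!
Generated checks of the points from 16000 to 24000.
-/

set_option autoImplicit false
set_option maxRecDepth 100000
set_option Elab.async false

namespace Cfsg.Agent.H27.Fi23Max

open Cfsg.Agent.H25.Fi23

theorem scan16000 : allFrom scanOK 1000 16000 = true := by decide +kernel

theorem scan17000 : allFrom scanOK 1000 17000 = true := by decide +kernel

theorem scan18000 : allFrom scanOK 1000 18000 = true := by decide +kernel

theorem scan19000 : allFrom scanOK 1000 19000 = true := by decide +kernel

theorem scan20000 : allFrom scanOK 1000 20000 = true := by decide +kernel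

theorem scan21000 : allFrom scanOK 1000 21000 = true := by decide +kernel

theorem scan22000 : allFrom scanOK 1000 22000 = true := by decide +kernel

theorem scan23000 : allFrom scanOK 1000 23000 = true := by decide +kernel

theorem scanRange2 : ∀ i, 16000 ≤ i → i < 24000 → scanOK i = true := by
  intro i h1 h2
  by_cases c16000 : i < 17000
  · exact allFrom_sound scan16000 i (by omega) (by omega)
  by_cases c17000 : i < 18000
  · exact allFrom_sound scan17000 i (by omega) (by omega)
  by_cases c18000 : i < 19000
  · exact allFrom_sound scan18000 i (by omega) (by omega)
  by_cases c19000 : i < 20000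
  · exact allFrom_sound scan19000 i (by omega) (by omega)
  by_cases c20000 : i < 21000
  · exact allFrom_sound scan20000 i (by omega) (by omega)
  by_cases c21000 : i < 22000
  · exact allFrom_sound scan21000 i (by omega) (by omega)
  by_cases c22000 : i < 23000
  · exact allFrom_sound scan22000 i (by omega) (by omega)
  exact allFrom_sound scan23000 i (by omega) (by omega)

end Cfsg.Agent.H27.Fi23Max
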