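import Cfsg.Agent.H27.Fi23Max.Check

/-!
The small checks on the data of a maximal subgroup of `Fi₂₃`.
-/

set_option autoImplicit false
set_option maxRecDepth 100000
set_option Elab.async false

namespace Cfsg.Agent.H27.Fi23Max

open Cfsg.Agent.H25.Fi23
open Cfsg.Agent.H45 (cget)

theorem pt_ok : (ptWords.all fun e => good e.1 e.2) = true := by decide +kernel

theorem lWords_ok : ((List.range 7).all fun s =>
    good (lPts.getD s 0) (lWords.getD s []) &&
      decide (lWords.getD s [] = wd (lPts.getD s 0))) = true := by decide +kernel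

theorem gWs_good : ((List.range 10).all fun g =>
    let ps := if g < 7 then [lPts.getD g 0] else oPts.getD (g - 7) []
    decide (gWs g = ps.map wd) && ps.all fun p => good p (wd p)) = true := by
  decide +kernel

theorem pat_good : ((fPatW ++ oPatW).all fun l => l.all fun e => good e.1 e.2.1) = true := by
  decide +kernel

theorem set_ok : ((List.range 324).all fun k => Nat.blt (fI k) 31671 && Nat.beq (labOf (fI k)) 0) = true := by
  decide +kernel

theorem fCand_ok : ((List.range 5).all fun i => (fPatW.getD i []).map Prod.fst == bases.take i &&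
    incr ((fCand.getD i []).map fI) && (fCand.getD i []).all (fun k => Nat.blt k 324) &&
    (List.range 324).all fun k =>
      !matchP (fPatW.getD i []) (fI k) || (fCand.getD i []).any (Nat.beq k)) = true := by decide +kernel

theorem base_ok : ((List.range 5).all fun i => Nat.beq (fI (bIdx.getD i 0)) (bases.getD i 0) &&
    Nat.blt (bIdx.getD i 0) 324 && matchP (fPatW.getD i []) (bases.getD i 0)) = true := by decide +kernel

theorem out_ok : ((List.range 5).all fun i =>
    (oPatW.getD i []).map Prod.fst == (if i < 4 then bases.take (5 + i) else pinned) &&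
    matchP (oPatW.getD i []) ((bases.drop 5 ++ [4287]).getD i 0) &&
    decide (labOf ((bases.drop 5 ++ [4287]).getD i 0) ≠ 0) &&
    Nat.blt ((bases.drop 5 ++ [4287]).getD i 0) 31671 &&
    Nat.ble (oCand.getD i []).length 3) = true := by decide +kernel

theorem pinned_ok : (pinned.all fun p => Nat.blt (labOf p) 2) = true ∧
    oCand.getD 4 [] = [4287] ∧ labOf 6527 = 1 ∧ labOf 4287 = 5 := by decide +kernel

/-- orbit steps inside the set -/
def stepsOK (i : ℕ) : List (ℕ × ℕ × ℕ) → List ℕ → Bool
  | [], known => (fCand.getD i []).all fun k => known.any (Nat.beq k)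
  | (x, g, y) :: l, known =>
      known.any (Nat.beq x) && Nat.blt g hOps.length &&
        (bIdx.take i).all (fun b => Nat.beq (cget (hTabs.getD g 0) b) b) &&
        Nat.beq (cget (hTabs.getD g 0) x) y && stepsOK i l (y :: known)

theorem orbit_ok : ((List.range 5).all fun i =>
    stepsOK i (oSteps.getD i []) [bIdx.getD i 0]) = true := by decide +kernel

theorem uw_ok : lvl hOps hOps.length uK = 3 ∧ parOK lOps lPar = true ∧ lPar.getD wK false = true ∧
    lvl zOps zOps.length zK = 6 ∧ uK < hOps.length ∧ wK < lOps.length ∧ zK < zOps.length ∧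
    ((List.range 324).all fun i => Nat.beq (cget (hTabs.getD uK 0) i) (cget (lTabs.getD wK 0) i) &&
      Nat.beq (cget (zTabs.getD zK 0) i) i) = true := by decide +kernel

theorem pairs_ok : ((List.range eqPairs.length).all fun k =>
    let e := eqPairs.getD k (0, 0, 0, 0)
    Nat.blt e.1 324 && Nat.blt e.2.1 324 &&
    if e.2.2.1 = 0 then Nat.beq (cget (hTabs.getD uK 0) e.1) e.2.1
    else Nat.blt e.2.2.2 k && Nat.blt (e.2.2.1 - 1) 10 &&
      Nat.beq (cget (gTabs.getD (e.2.2.1 - 1) 0) (eqPairs.getD e.2.2.2 (0, 0, 0, 0)).1) e.1 &&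
      Nat.beq (cget (gTabs.getD (e.2.2.1 - 1) 0) (eqPairs.getD e.2.2.2 (0, 0, 0, 0)).2.1) e.2.1) = true := by
  decide +kernel

/-- a path of pairs -/
def pathOK : List (ℕ × Bool) → ℕ → ℕ → Bool
  | [], x, t => Nat.beq x t
  | (e, r) :: l, x, t =>
      Nat.blt e eqPairs.length &&
      (if r then Nat.beq (eqPairs.getD e (0, 0, 0, 0)).2.1 x && pathOK l (eqPairs.getD e (0, 0, 0, 0)).1 t
      else Nat.beq (eqPairs.getD e (0, 0, 0, 0)).1 x && pathOK l (eqPairs.getD e (0, 0, 0, 0)).2.1 t)

/-- the indices of the seven -/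
def lIdx : List ℕ := [0, 1, 2, 3, 4, 5, 108]

theorem paths_ok : ((List.range 7).all fun s => Nat.beq (fI (lIdx.getD s 0)) (lPts.getD s 0) &&
    pathOK (([] :: eqPaths).getD s []) 0 (lIdx.getD s 0)) = true := by decide +kernel

theorem dTwo_ok : derOK dTwo (lPts ++ [11]) [] = true := by decide +kernel

theorem dTwo_labels : ([1, 3, 4, 5].all fun l => (dTwo.map fun e => e.2.2).any
    fun q => Nat.beq (labOf q) l) = true := by decide +kernel

theorem dOneThree_ok : derOK dOneThree (lPts ++ [1, 28]) [] = true ∧
    (dOneThree.map fun e => e.2.2).any (fun q => Nat.beq (labOf q) 2) = true := by decide +kernel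

theorem dOneFive_ok : derOK dOneFive (lPts ++ [1, 83]) [] = true ∧
    (dOneFive.map fun e => e.2.2).any (fun q => Nat.beq (labOf q) 2) = true := by decide +kernel

theorem dNine_ok : derOK dNine bases lPts = true ∧
    bases.any (fun q => Nat.beq (labOf q) 2) = true := by decide +kernel

theorem maps_ok : Nat.beq (labOf (apW (gWs 7) 28)) 5 = true ∧
    Nat.beq (labOf (apW (gWs 7) 83)) 4 = true ∧ Nat.beq (labOf (apW (gWs 9) 30)) 1 = true ∧
    Nat.beq (labOf (apW (gWs 9) 1)) 4 = true ∧ Nat.beq (labOf (apW (gWs 7) 30)) 3 = true := by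
  decide +kernel

theorem reps_eq : reps = [0, 1, 11, 28, 30, 83] ∧ (reps.all fun q => Nat.blt q 31671) = true ∧
    labOf 1 = 1 := by decide +kernel

theorem move_ok : good 1 (wd 1) = true := by decide +kernel

end Cfsg.Agent.H27.Fi23Max
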