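import Cfsg.Agent.H27.Fi23Max.Check

/-!
The tables of the generators on the set.
-/

set_option autoImplicit false
set_option maxRecDepth 100000
set_option Elab.async false

namespace Cfsg.Agent.H27.Fi23Max

open Cfsg.Agent.H25.Fi23
open Cfsg.Agent.H45 (cget)

theorem gTab0_ok : gTabOK 0 = true := by decide +kernel

theorem gTab1_ok : gTabOK 1 = true := by decide +kernel

theorem gTab2_ok : gTabOK 2 = true := by decide +kernel

theorem gTab3_ok : gTabOK 3 = true := by decide +kernel

theorem gTab4_ok : gTabOK 4 = true := by decide +kernel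

theorem gTab5_ok : gTabOK 5 = true := by decide +kernel

theorem gTab6_ok : gTabOK 6 = true := by decide +kernel

theorem gTab7_ok : gTabOK 7 = true := by decide +kernel

theorem gTab8_ok : gTabOK 8 = true := by decide +kernel

theorem gTab9_ok : gTabOK 9 = true := by decide +kernel

theorem gTabs_ok {g : ℕ} (h : g < 10) : gTabOK g = true := by
  interval_cases g
  exacts [gTab0_ok, gTab1_ok, gTab2_ok, gTab3_ok, gTab4_ok, gTab5_ok, gTab6_ok, gTab7_ok, gTab8_ok, gTab9_ok]

end Cfsg.Agent.H27.Fi23Max
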