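import Cfsg.Agent.H27.Fi23Max.Setup
import Cfsg.Agent.H27.Fi23Max.Small
import Cfsg.Agent.H27.Fi23Max.Tabs
import Cfsg.Agent.H27.Fi23Max.Scan0
import Cfsg.Agent.H27.Fi23Max.Scan1
import Cfsg.Agent.H27.Fi23Max.Scan2
import Cfsg.Agent.H27.Fi23Max.Scan3

/-!
Sets of transpositions closed under conjugation, read off from the forest.
-/

set_option autoImplicit false
set_option maxRecDepth 100000

namespace Cfsg.Agent.H27.Fi23Max

open Cfsg.Agent.H25.Fi23
open Cfsg.Agent.H45 (cget force force_eq)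

/-- the index of a point of the set -/
def fIdx (q : ℕ) : ℕ := ((List.range 324).find? fun k => Nat.beq (fI k) q).getD 0

theorem fInv_ok : ((List.range 324).all fun k => Nat.beq (fIdx (fI k)) k) = true := by
  decide +kernel

theorem scan_all {q : ℕ} (hq : q < 31671) : scanOK q = true := by
  by_cases c0 : q < 8000
  · exact scanRange0 q (Nat.zero_le _) c0
  by_cases c1 : q < 16000
  · exact scanRange1 q (by omega) c1
  by_cases c2 : q < 24000
  · exact scanRange2 q (by omega) c2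
  exact scanRange3 q (by omega) (by omega)

theorem any_beq {x : ℕ} {l : List ℕ} : (l.any (Nat.beq x)) = true ↔ x ∈ l := by
  simp [List.any_eq_true, Nat.beq_eq]

/-- a point of the set -/
def InF (q : ℕ) : Prop := q < 31671 ∧ labOf q = 0

theorem labOf_lt {q : ℕ} (hq : q < 31671) : labOf q < 6 := by
  have h := scan_all hq
  simp only [scanOK, forestOK, force_eq, andB_eq, Bool.and_eq_true, Nat.blt_eq] at h
  exact h.1.1

theorem fI_spec {k : ℕ} (hk : k < 324) : InF (fI k) := by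
  have h := List.all_eq_true.mp set_ok k (List.mem_range.mpr hk)
  simp only [Bool.and_eq_true, Nat.blt_eq, Nat.beq_eq] at h
  exact h

theorem fI_inj {a b : ℕ} (ha : a < 324) (hb : b < 324) (h : fI a = fI b) : a = b := by
  have hc := List.all_eq_true.mp fInv_ok
  have h1 := hc a (List.mem_range.mpr ha)
  have h2 := hc b (List.mem_range.mpr hb)
  simp only [Nat.beq_eq] at h1 h2
  rw [← h1, ← h2, h]

theorem cand_spec {q i : ℕ} (hq : q < 31671) (hl : labOf q ≠ 0) (hi : i < 5)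
    (hm : matchP (oPatW.getD i []) q = true) : q ∈ oCand.getD i [] := by
  have h := scan_all hq
  have hl' : Nat.beq (labOf q) 0 = false :=
    Bool.eq_false_iff.mpr fun h' => hl (Nat.eq_of_beq_eq_true h')
  simp only [scanOK, candOK, andB_eq, ifB_eq, hl', cond_false, Bool.and_eq_true,
    List.all_eq_true] at h
  have h2 := h.2 i (List.mem_range.mpr hi)
  rw [hm] at h2
  exact any_beq.mp h2

theorem apW_nil (p : ℕ) : apW [] p = p := rfl

theorem apW_cons (w : List ℕ) (l : List (List ℕ)) (p : ℕ) : apW (w :: l) p = apW l (tf w p) := by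
  simp only [apW, force_eq]

theorem lPts_good {s : ℕ} (hs : s < 7) : good (lPts.getD s 0) (lWords.getD s []) = true ∧
    lWords.getD s [] = wd (lPts.getD s 0) := by
  have h := List.all_eq_true.mp lWords_ok s (List.mem_range.mpr hs)
  simpa only [Bool.and_eq_true, decide_eq_true_eq] using h

/-- the points of a generator -/
def gPts (g : ℕ) : List ℕ := if g < 7 then [lPts.getD g 0] else oPts.getD (g - 7) []

theorem gPts_good {g : ℕ} (hg : g < 10) :
    gWs g = (gPts g).map wd ∧ ∀ p ∈ gPts g, good p (wd p) = true := by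
  have h := List.all_eq_true.mp gWs_good g (List.mem_range.mpr hg)
  simp only [Bool.and_eq_true, decide_eq_true_eq, List.all_eq_true] at h
  exact h

theorem gWs_lt {g : ℕ} (hg : g < 10) : ∀ w ∈ gWs g, ∀ l ∈ w, l < 10 := by
  obtain ⟨e, hp⟩ := gPts_good hg
  intro w hw l hl
  rw [e, List.mem_map] at hw
  obtain ⟨p, hp', rfl⟩ := hw
  have := hp p hp'
  simp only [good, Bool.and_eq_true, List.all_eq_true, H45.blt_iff] at this
  exact this.1.1 l hl

theorem gTab_spec {g i : ℕ} (hg : g < 10) (hi : i < 324) :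
    cget (gTabs.getD g 0) i < 324 ∧ apW (gWs g) (fI i) = fI (cget (gTabs.getD g 0) i) := by
  have h := gTabs_ok hg
  simp only [gTabOK, tabLt, Bool.and_eq_true, List.all_eq_true, List.mem_range, Nat.blt_eq,
    Nat.beq_eq] at h
  exact ⟨h.1 i hi, h.2 i hi⟩

/-- a generator -/
noncomputable def gen (g : ℕ) : X := prodW (gWs g)

namespace Mdl

variable (M : Mdl)

theorem ap_prodW : ∀ {l : List (List ℕ)}, (∀ w ∈ l, ∀ a ∈ w, a < 10) → ∀ {i : ℕ}, i < 31671 →
    M.ap (prodW l) i = apW l i := by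
  intro l
  induction l with
  | nil => intro _ i _; rw [prodW, ap_one, apW_nil]
  | cons w l ih =>
    intro h i hi
    have hw := h w (List.mem_cons_self)
    rw [prodW, ap_mul, apW_cons, ← M.ap_dW hw hi,
      ih (fun v hv => h v (List.mem_cons_of_mem _ hv)) (M.ap_lt _ hi)]

theorem ap_gen {g : ℕ} (hg : g < 10) {i : ℕ} (hi : i < 31671) :
    M.ap (gen g) i = apW (gWs g) i := M.ap_prodW (gWs_lt hg) hi

theorem gen_map {g i : ℕ} (hg : g < 10) (hi : i < 324) :
    M.ap (gen g) (fI i) = fI (cget (gTabs.getD g 0) i) := by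
  rw [M.ap_gen hg (fI_spec hi).1, (gTab_spec hg hi).2]

theorem lPts_lt {s : ℕ} (hs : s < 7) : lPts.getD s 0 < 31671 := by
  have h := (lPts_good hs).1
  simp only [good, Bool.and_eq_true, Nat.blt_eq] at h
  exact h.1.2

theorem gen_low {g : ℕ} (hg : g < 7) : gen g = M.d (lPts.getD g 0) := by
  obtain ⟨e, hp⟩ := gPts_good (show g < 10 by omega)
  have hgP : gPts g = [lPts.getD g 0] := if_pos hg
  rw [gen, e, hgP, List.map_cons, List.map_nil, prodW, prodW, one_mul]
  exact (M.good_spec (hp _ (by rw [hgP]; exact List.mem_singleton.mpr rfl))).2.2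

theorem ap_d_d (p i : ℕ) : M.ap (M.d p) (M.ap (M.d p) i) = i := by
  rw [← ap_mul, d_mul_self, ap_one]

theorem ap_lPts {s : ℕ} (hs : s < 7) {i : ℕ} (hi : i < 31671) :
    M.ap (M.d (lPts.getD s 0)) i = tf (lWords.getD s []) i :=
  M.tf_conj (lPts_good hs).1 hi

/-- closed under the seven -/
def ClosedL (S : Set ℕ) : Prop :=
  ∀ s, s < 7 → ∀ q, q < 31671 → q ∈ S → M.ap (M.d (lPts.getD s 0)) q ∈ S

theorem label_iff {S : Set ℕ} (hS : M.ClosedL S) : ∀ {q : ℕ}, q < 31671 →
    (q ∈ S ↔ reps.getD (labOf q) 99999 ∈ S) := by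
  intro q
  induction hd : depOf q using Nat.strong_induction_on generalizing q with
  | _ n ih =>
    intro hq
    subst hd
    have h := scan_all hq
    simp only [scanOK, forestOK, force_eq, andB_eq, Bool.and_eq_true] at h
    have h2 := h.1.2
    rcases Bool.eq_false_or_eq_true (Nat.beq (depOf q) 0) with h0 | h0
    · simp only [ifB_eq, h0, cond_true, Nat.beq_eq] at h2
      rw [h2]
    · simp only [ifB_eq, h0, cond_false, Bool.and_eq_true, Nat.blt_eq, Nat.beq_eq] at h2
      obtain ⟨hp, hg, hl, hdep, ht⟩ := h2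
      rw [← M.ap_lPts hg hp] at ht
      rw [← hl, ← ih _ hdep rfl hp]
      refine ⟨fun hqS => ?_, fun hpS => ?_⟩
      · have := hS _ hg q hq hqS
        rwa [← congrArg (M.ap (M.d (lPts.getD (genOf q) 0))) ht, ap_d_d] at this
      · have := hS _ hg _ hp hpS
        rwa [ht] at this

theorem label_same {S : Set ℕ} (hS : M.ClosedL S) {p q : ℕ} (hp : p < 31671) (hq : q < 31671)
    (hl : labOf p = labOf q) (hpS : p ∈ S) : q ∈ S := by
  rw [M.label_iff hS hq, ← hl, ← M.label_iff hS hp]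
  exact hpS

theorem zero_inF : InF 0 := by
  have h : fI 0 = 0 := by decide +kernel
  exact h ▸ fI_spec (by norm_num)

theorem inF_iff (M : Mdl) {q : ℕ} : InF q ↔ ∃ k, k < 324 ∧ fI k = q := by
  refine ⟨fun ⟨hq, hl⟩ => ?_, fun ⟨k, hk, e⟩ => e ▸ fI_spec hk⟩
  have hS : M.ClosedL {q | ∃ k, k < 324 ∧ fI k = q} := by
    rintro s hs _ - ⟨k, hk, rfl⟩
    refine ⟨_, (gTab_spec (show s < 10 by omega) hk).1, ?_⟩
    rw [← M.gen_low hs, M.gen_map (by omega) hk]
  exact M.label_same hS (p := 0) (by norm_num) hq (by rw [hl]; exact zero_inF.2)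
    ⟨0, by norm_num, by decide +kernel⟩

theorem lPts_inF {s : ℕ} (hs : s < 7) : InF (lPts.getD s 0) := by
  have h := List.all_eq_true.mp paths_ok s (List.mem_range.mpr hs)
  simp only [Bool.and_eq_true, Nat.beq_eq] at h
  rw [← h.1]
  refine fI_spec ?_
  interval_cases s <;> decide

/-- closed under conjugation inside -/
def ClosedD (S : Set ℕ) : Prop :=
  ∀ a b, a < 31671 → b < 31671 → a ∈ S → b ∈ S → M.ap (M.d a) b ∈ S

theorem derOK_sound {S : Set ℕ} (hS : M.ClosedD S) : ∀ {l : List (ℕ × ℕ × ℕ)} {known want : List ℕ},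
    derOK l known want = true → (∀ k ∈ known, k < 31671 ∧ k ∈ S) →
    (∀ t ∈ want, t < 31671 ∧ t ∈ S) ∧ ∀ q ∈ l.map (fun e => e.2.2), q < 31671 ∧ q ∈ S := by
  intro l
  induction l with
  | nil =>
    intro known want h hk
    simp only [derOK, List.all_eq_true, any_beq] at h
    exact ⟨fun t ht => hk t (h t ht), fun q hq => by simp at hq⟩
  | cons e l ih =>
    obtain ⟨a, b, q⟩ := e
    intro known want h hk
    simp only [derOK, Bool.and_eq_true, any_beq, Nat.beq_eq] at h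
    obtain ⟨⟨⟨⟨ha, hb⟩, hg⟩, ht⟩, hl⟩ := h
    obtain ⟨ha1, ha2⟩ := hk a ha
    obtain ⟨hb1, hb2⟩ := hk b hb
    rw [← M.tf_conj hg hb1] at ht
    have hqq : q < 31671 ∧ q ∈ S := ⟨ht ▸ M.ap_lt _ hb1, ht ▸ hS a b ha1 hb1 ha2 hb2⟩
    obtain ⟨h1, h2⟩ := ih hl (List.forall_mem_cons.mpr ⟨hqq, hk⟩)
    refine ⟨h1, fun x hx => ?_⟩
    rw [List.map_cons, List.mem_cons] at hx
    rcases hx with rfl | hx
    · exact hqq
    · exact h2 x hx

theorem seven_closed {S : Set ℕ} (hS : M.ClosedD S) (hL : ∀ s, s < 7 → lPts.getD s 0 ∈ S) :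
    M.ClosedL S := fun s hs q hq hqS => hS _ _ (lPts_lt hs) hq (hL s hs) hqS

theorem mem_lPts {S : Set ℕ} (hL : ∀ s, s < 7 → lPts.getD s 0 ∈ S) :
    ∀ k ∈ lPts, k < 31671 ∧ k ∈ S := by
  intro k hk
  simp only [lPts, List.mem_cons, List.not_mem_nil, or_false] at hk
  rcases hk with rfl | rfl | rfl | rfl | rfl | rfl | rfl
  exacts [⟨by norm_num, hL 0 (by norm_num)⟩, ⟨by norm_num, hL 1 (by norm_num)⟩,
    ⟨by norm_num, hL 2 (by norm_num)⟩, ⟨by norm_num, hL 3 (by norm_num)⟩,
    ⟨by norm_num, hL 4 (by norm_num)⟩, ⟨by norm_num, hL 5 (by norm_num)⟩,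
    ⟨by norm_num, hL 6 (by norm_num)⟩]

theorem all_of_two {S : Set ℕ} (hS : M.ClosedD S) (hL : ∀ s, s < 7 → lPts.getD s 0 ∈ S)
    {p : ℕ} (hp : p < 31671) (hp2 : labOf p = 2) (hpS : p ∈ S) : ∀ q, q < 31671 → q ∈ S := by
  have hC := M.seven_closed hS hL
  have h11 : (11 : ℕ) ∈ S := by
    have h := (M.label_iff hC hp).mp hpS
    rwa [hp2, reps_eq.1] at h
  obtain ⟨-, hd⟩ := M.derOK_sound hS dTwo_ok fun k hk => by
    rcases List.mem_append.mp hk with hk | hk
    · exact mem_lPts hL k hk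
    · rw [List.mem_singleton.mp hk]; exact ⟨by norm_num, h11⟩
  intro q hq
  have h6 := labOf_lt hq
  by_cases e0 : labOf q = 0
  · exact M.label_same hC (lPts_lt (by norm_num)) hq
      ((lPts_inF (by norm_num)).2.trans e0.symm) (hL 0 (by norm_num))
  by_cases e2 : labOf q = 2
  · exact M.label_same hC hp hq (hp2.trans e2.symm) hpS
  · have h1 := List.all_eq_true.mp dTwo_labels (labOf q) (by
      simp only [List.mem_cons, List.not_mem_nil, or_false]; omega)
    obtain ⟨x, hx, hxl⟩ := List.any_eq_true.mp h1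
    exact M.label_same hC (hd x hx).1 hq (Nat.eq_of_beq_eq_true hxl) (hd x hx).2

theorem all_of_pair {S : Set ℕ} (hS : M.ClosedD S) (hL : ∀ s, s < 7 → lPts.getD s 0 ∈ S)
    {l : List (ℕ × ℕ × ℕ)} {a : ℕ} (ha : a < 31671) (haS : a ∈ S) (h1 : (1 : ℕ) ∈ S)
    (hl : derOK l (lPts ++ [1, a]) [] = true ∧
      (l.map fun e => e.2.2).any (fun q => Nat.beq (labOf q) 2) = true) :
    ∀ q, q < 31671 → q ∈ S := by
  obtain ⟨-, hd⟩ := M.derOK_sound hS hl.1 fun k hk => by
    rcases List.mem_append.mp hk with hk | hk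
    · exact mem_lPts hL k hk
    · simp only [List.mem_cons, List.not_mem_nil, or_false] at hk
      rcases hk with rfl | rfl
      · exact ⟨by norm_num, h1⟩
      · exact ⟨ha, haS⟩
  obtain ⟨x, hx, hxl⟩ := List.any_eq_true.mp hl.2
  exact M.all_of_two hS hL (hd x hx).1 (Nat.eq_of_beq_eq_true hxl) (hd x hx).2

theorem all_of_bases {S : Set ℕ} (hS : M.ClosedD S) (hb : ∀ b ∈ bases, b ∈ S) :
    ∀ q, q < 31671 → q ∈ S := by
  have hlt : ∀ b ∈ bases, b < 31671 := by decide
  obtain ⟨hw, -⟩ := M.derOK_sound hS dNine_ok.1 fun k hk => ⟨hlt k hk, hb k hk⟩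
  obtain ⟨x, hx, hxl⟩ := List.any_eq_true.mp dNine_ok.2
  refine M.all_of_two hS (fun s hs => (hw _ ?_).2) (hlt x hx) (Nat.eq_of_beq_eq_true hxl) (hb x hx)
  interval_cases s <;> decide

/-- the points fixed by an element -/
def fixed (c : X) : Set ℕ := {q | M.ap c q = q}

theorem fixed_closed (c : X) : M.ClosedD (M.fixed c) := by
  intro a b ha _ hca hcb
  show M.ap c _ = _
  simp only [fixed, Set.mem_ofPred_eq] at hca hcb
  rw [← ap_mul, show c * M.d a = c * M.d a * c⁻¹ * c by group, M.d_conj c ha, hca, ap_mul, hcb]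

theorem eq_one_of_bases {c : X} (h : ∀ b ∈ bases, M.ap c b = b) : c = 1 :=
  M.eq_one fun q hq => M.all_of_bases (M.fixed_closed c) h q hq

theorem match_ap {g : X} : ∀ {l : List (ℕ × List ℕ × Bool)}, (∀ e ∈ l, good e.1 e.2.1 = true) →
    (∀ e ∈ l, M.ap g e.1 = e.1) → ∀ {x : ℕ}, x < 31671 → matchP l x = true →
    matchP l (M.ap g x) = true := by
  intro l
  induction l with
  | nil => intros; rfl
  | cons e l ih =>
    obtain ⟨p, w, c⟩ := e
    intro hg hfix x hx h
    simp only [List.forall_mem_cons] at hg hfix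
    have hp : p < 31671 := (M.good_spec hg.1).1
    simp only [matchP, ifB_eq] at h ⊢
    rw [← M.tf_conj hg.1 hx] at h
    rw [← M.tf_conj hg.1 (M.ap_lt g hx)]
    have hc : M.ap (M.d p) (M.ap g x) = M.ap g (M.ap (M.d p) x) := by
      conv_lhs => rw [← hfix.1, ← M.d_conj g hp, ap_mul, ap_mul, ap_inv_ap]
    rw [hc]
    have hb : ∀ {u v : ℕ}, Nat.beq (M.ap g u) (M.ap g v) = Nat.beq u v := by
      intro u v
      rw [Bool.eq_iff_iff, Nat.beq_eq, Nat.beq_eq]
      exact ⟨M.ap_inj, fun e => e ▸ rfl⟩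
    rw [hb, show Nat.beq (M.ap g x) p = Nat.beq x p by conv_lhs => rw [← hfix.1, hb]]
    have := ih hg.2 hfix.2 hx
    revert h
    cases Nat.beq x p <;> cases Nat.beq (M.ap (M.d p) x) x <;> cases c <;> simp_all

end Mdl

end Cfsg.Agent.H27.Fi23Max
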