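import Cfsg.Agent.H27.Fi23Max.Nine

/-!
A solvable maximal subgroup of `Fi₂₃` whose ninth derived subgroup is not perfect.
-/

set_option autoImplicit false
set_option maxRecDepth 100000

namespace Cfsg.Agent.H27.Fi23Max

open Cfsg.Agent.H25.Fi23 hiding H
open Cfsg.Agent.H45 (cget)

namespace Mdl

variable (M : Mdl)

/-- parity modulo a subgroup -/
def Par (D : Subgroup X) (x : X) (p : Bool) (e : X) : Prop := (if p then x else 1) * e ∈ D

theorem seven_mem_three {s : ℕ} (hs : s < 7) : M.d (lPts.getD s 0) ∈ M.DS 3 := by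
  set D := M.DS 3 with hD
  have hn : ∀ h ∈ M.N, ∀ y ∈ D, h * y * h⁻¹ ∈ D := fun h hh y hy => M.DS_conj hh hy
  obtain ⟨hlu, hpar, hodd, -, hu', hw', -, hall⟩ := uw_ok
  have hu : ev hOps hOps.length uK ∈ D := by rw [hD, ← hlu]; exact (M.hOps_spec hu').2
  have hp := M.pair_mem hn hu
  have hpath := List.all_eq_true.mp paths_ok
  have hR : ∀ t, t < 7 → M.d (fI 0) * M.d (lPts.getD t 0) ∈ D := by
    intro t ht
    have h := hpath t (List.mem_range.mpr ht)
    simp only [Bool.and_eq_true, Nat.beq_eq] at h
    rw [← h.1]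
    exact M.path_mem (fun k hk => (hp k hk).2.2) h.2
  set x := M.d (fI 0) with hx
  have hxN : x ∈ M.N := M.dF_mem (fI_spec (by norm_num))
  have hxx : x * x = 1 := M.d_mul_self _
  have hxi : x⁻¹ = x := inv_eq_of_mul_eq_one_right hxx
  have conj : ∀ y, y ∈ D → x * y * x ∈ D := fun y hy => by
    have := hn x hxN y hy; rwa [hxi] at this
  have pmul : ∀ p q e f, Par D x p e → Par D x q f → Par D x (xor p q) (e * f) := by
    intro p q e f he hf
    cases p <;> cases q <;>
      simp only [Par, Bool.false_eq_true, if_false, if_true, one_mul, Bool.false_xor,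
        Bool.true_xor, Bool.not_false, Bool.not_true] at he hf ⊢
    · exact D.mul_mem he hf
    · have := D.mul_mem (conj e he) hf
      rwa [show x * e * x * (x * f) = x * e * (x * x) * f by simp only [mul_assoc], hxx, mul_one,
        mul_assoc] at this
    · have := D.mul_mem he hf
      rwa [mul_assoc] at this
    · have := D.mul_mem (conj _ he) hf
      rwa [show x * (x * e) * x * (x * f) = (x * x) * e * (x * x) * f by simp only [mul_assoc], hxx,
        one_mul, mul_one] at this
  have pinv : ∀ p e, Par D x p e → Par D x p e⁻¹ := by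
    intro p e he
    cases p <;> simp only [Par, Bool.false_eq_true, if_false, if_true, one_mul] at he ⊢
    · exact D.inv_mem he
    · have := conj _ (D.inv_mem he)
      rwa [mul_inv_rev, hxi, show x * (e⁻¹ * x) * x = x * e⁻¹ * (x * x) by simp only [mul_assoc],
        hxx, mul_one] at this
  have hgen : ∀ g, g < 7 → Par D x true (gen g) := fun g hg => by
    simp only [Par, if_true]
    rw [M.gen_low hg]
    exact hR g hg
  simp only [parOK, List.all_eq_true, List.mem_range, beq_iff_eq] at hpar
  have hops := lOps_ok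
  simp only [opsOK, Bool.and_eq_true, List.all_eq_true, List.mem_range, Nat.beq_eq] at hops
  have hev : ∀ f k, k < f → k < lOps.length →
      Par D x (lPar.getD k false) (ev lOps f k) := by
    intro f
    induction f with
    | zero => intro k hk; omega
    | succ f ih =>
      intro k hkf hk
      have hm := (hops.2 k hk).2
      have hq := hpar k hk
      rcases ho : lOps.getD k (0, 0, 0) with ⟨t, a, b⟩
      rw [ho] at hm hq
      simp only [ev, ho]
      rcases t with _ | _ | _ | t <;> simp only [Nat.zero_add, Nat.reduceAdd] at hm hq ⊢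
      · simp only [Bool.and_eq_true, Nat.blt_eq, Nat.beq_eq] at hm
        rw [hq]
        exact hgen a (lt_of_lt_of_le hm.1 (by decide))
      · simp only [Bool.and_eq_true, Nat.blt_eq] at hm
        rw [hq, Bool.xor_comm]
        exact pmul _ _ _ _ (ih b (by omega) (by omega)) (ih a (by omega) (by omega))
      · simp only [Bool.and_eq_true, Nat.blt_eq] at hm
        rw [hq]
        exact pinv _ _ (ih a (by omega) (by omega))
      · simp only [Bool.and_eq_true, Nat.blt_eq] at hm
        rw [hq]
        have iha := ih a (by omega) (by omega)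
        have ihb := ih b (by omega) (by omega)
        have := pmul _ _ _ _ (pmul _ _ _ _ (pmul _ _ _ _ iha ihb) (pinv _ _ iha)) (pinv _ _ ihb)
        rwa [show ∀ p q : Bool, xor (xor (xor p q) p) q = false by decide] at this
  have hw := hev lOps.length wK hw' hw'
  rw [hodd] at hw
  simp only [Par, if_true] at hw
  set u := ev hOps hOps.length uK with hu0
  set w := ev lOps lOps.length wK with hw0
  set c := u⁻¹ * w with hc0
  simp only [List.all_eq_true, List.mem_range, Bool.and_eq_true, Nat.beq_eq] at hall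
  have hTw : M.Tab (lTabs.getD wK 0) w ∧ w ∈ M.DS (0 + lvl lOps lOps.length wK) :=
    M.ev_spec lOps_ok (n := 0) (fun g hg => ⟨M.gen7_tab (lt_of_lt_of_le hg (by decide)),
      by rw [DS_zero]; exact M.gen_mem (lt_of_lt_of_le hg (by decide))⟩) _ wK hw' hw'
  have hc : M.FixF c := by
    refine ⟨M.N.mul_mem (M.N.inv_mem (M.DS_le _ hu)) (M.DS_le _ hTw.2), fun q hq => ?_⟩
    obtain ⟨k, hk, rfl⟩ := M.inF_iff.mp hq
    rw [ap_mul, (hTw.1 k hk).2, ← (hall k hk).1, ← ((M.hOps_spec hu').1 k hk).2, ap_inv_ap]
  have hcx : c * x = x * c := by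
    have h := M.d_conj c (fI_spec (show 0 < 324 by norm_num)).1
    rw [hc.2 _ (fI_spec (by norm_num)), ← hx] at h
    calc c * x = c * x * c⁻¹ * c := by group
      _ = x * c := by rw [h]
  have hxc : x * c ∈ D := by
    have hxu : x * u⁻¹ * x ∈ D := conj _ (D.inv_mem hu)
    have := D.mul_mem hxu hw
    rwa [show x * u⁻¹ * x * (x * w) = x * u⁻¹ * (x * x) * w by simp only [mul_assoc], hxx, mul_one,
      mul_assoc] at this
  have hxD : x ∈ D := by
    have h3 : x * c * (x * c) * (x * c) ∈ D := D.mul_mem (D.mul_mem hxc hxc) hxc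
    have hcm : Commute x c := hcx.symm
    have e : x * c * (x * c) * (x * c) = x := by
      calc x * c * (x * c) * (x * c) = (x * c) ^ 3 := by rw [pow_three, mul_assoc]
        _ = x ^ 3 * c ^ 3 := hcm.mul_pow 3
        _ = x := by
          rw [pow_three, pow_three, ← mul_assoc c, M.fixF_cube hc, mul_one, hxx, mul_one]
    rwa [e] at h3
  have := D.mul_mem hxD (hR s hs)
  rwa [← mul_assoc, hxx, one_mul] at this

theorem zE_mem : zE ∈ M.DS 9 := by
  obtain ⟨-, -, -, hlz, -, -, hz, -⟩ := uw_ok
  have h := (M.ev_spec zOps_ok (n := 3) (fun g hg => ⟨M.gen7_tab (lt_of_lt_of_le hg (by decide)),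
    by rw [M.gen_low (lt_of_lt_of_le hg (by decide))]
       exact M.seven_mem_three (lt_of_lt_of_le hg (by decide))⟩) _ zK hz hz).2
  rw [hlz] at h
  exact h

theorem zE_ne (M : Mdl) : zE ≠ (1 : X) := by
  intro h
  have := M.z_points.1
  rw [h, ap_one] at this
  exact absurd this (by norm_num)

theorem not_perfect : derivedSeries M.N 10 ≠ derivedSeries M.N 9 := by
  intro h
  have := M.solvable_N
  obtain ⟨n, hn⟩ := (Group.isSolvable_def M.N).mp this
  have key : ∀ k, derivedSeries M.N (9 + k) = derivedSeries M.N 9 := by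
    intro k
    induction k with
    | zero => rfl
    | succ k ih => rw [show 9 + (k + 1) = 9 + k + 1 by omega, derivedSeries_succ, ih,
        ← derivedSeries_succ, h]
  have h9 : derivedSeries M.N 9 = ⊥ := by
    rw [← key n, eq_bot_iff, ← hn]
    exact derivedSeries_antitone _ (by omega)
  have hz := M.zE_mem
  rw [DS, h9, Subgroup.map_bot, Subgroup.mem_bot] at hz
  exact M.zE_ne hz

end Mdl

theorem main : ∃ (G : Type) (_ : Group G) (_ : Finite G) (S H : Subgroup G), S.Normal ∧
    IsSimpleGroup S ∧ ¬ IsMulCommutative S ∧ Subgroup.centralizer (S : Set G) = ⊥ ∧ IsCoatom H ∧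
    derivedSeries H 10 ≠ derivedSeries H 9 := by
  obtain ⟨M⟩ := exists_mdl
  have := Cfsg.Agent.H25.Fi23.isSimple
  refine ⟨X, inferInstance, finite_X, ⊤, M.N, inferInstance,
    IsSimpleGroup.isSimpleGroup_of_surjective
      (Subgroup.topEquiv (G := X)).symm.toMonoidHom (MulEquiv.surjective _),
    ?_, ?_, M.isCoatom_N, M.not_perfect⟩
  · intro h
    have hcen : Subgroup.center X = ⊤ := by
      rw [eq_top_iff]
      intro g _
      refine Subgroup.mem_center_iff.mpr fun y => ?_
      exact congrArg Subtype.val (h.is_comm.comm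
        (⟨y, Subgroup.mem_top y⟩ : (⊤ : Subgroup X)) ⟨g, Subgroup.mem_top g⟩)
    rw [Mdl.center_bot] at hcen
    exact bot_ne_top hcen
  · rw [Subgroup.coe_top, Subgroup.centralizer_univ, Mdl.center_bot]

end Cfsg.Agent.H27.Fi23Max
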