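import Cfsg.Agent.H27.Fi23Max.Check

/-!
The element of the tenth layer moves a point.
-/

set_option autoImplicit false
set_option maxRecDepth 100000
set_option Elab.async false

namespace Cfsg.Agent.H27.Fi23Max

open Cfsg.Agent.H25.Fi23
open Cfsg.Agent.H45 (cget)

theorem z_first : evP zOps zOps.length zK false 6527 = 8005 := by decide +kernel

theorem z_second : evP zOps zOps.length zK false 8005 = 6543 := by decide +kernel

end Cfsg.Agent.H27.Fi23Max
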