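import Cfsg.Agent.H27.Fi23Max.Series
import Cfsg.Agent.H27.Fi23Max.ZMoves
import Cfsg.Agent.H27.Fi23Max.Chain

/-!
A nontrivial element in the ninth layer of the derived series.
-/

set_option autoImplicit false
set_option maxRecDepth 100000

namespace Cfsg.Agent.H27.Fi23Max

open Cfsg.Agent.H25.Fi23 hiding H
open Cfsg.Agent.H45 (cget force force_eq)

namespace Mdl

variable (M : Mdl)

/-- elements of the stabiliser fixing the set pointwise -/
def FixF (c : X) : Prop := c ∈ M.N ∧ ∀ q, InF q → M.ap c q = q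

theorem fixF_mul {b c : X} (hb : M.FixF b) (hc : M.FixF c) : M.FixF (b * c) :=
  ⟨M.N.mul_mem hb.1 hc.1, fun q hq => by rw [ap_mul, hc.2 q hq, hb.2 q hq]⟩

theorem fixF_inv {c : X} (hc : M.FixF c) : M.FixF c⁻¹ :=
  ⟨M.N.inv_mem hc.1, fun q hq => by
    conv_lhs => rw [← hc.2 q hq]
    exact M.ap_inv_ap c q⟩

theorem fixF_eq_one {c : X} (hc : M.FixF c) (h : M.ap c 6527 = 6527) : c = 1 := by
  have hD := M.fixed_closed c
  have hL : ∀ s, s < 7 → lPts.getD s 0 ∈ M.fixed c := fun s hs => hc.2 _ (lPts_inF hs)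
  have hC := M.seven_closed hD hL
  obtain ⟨hpin, hcand, h1, h5⟩ := pinned_ok
  obtain ⟨er, -, l1⟩ := reps_eq
  have hone : (1 : ℕ) ∈ M.fixed c :=
    M.label_same hC (by norm_num) (by norm_num) (h1.trans l1.symm) h
  have hp : ∀ p ∈ pinned, M.ap c p = p := by
    intro p hp
    have hl := List.all_eq_true.mp hpin p hp
    rw [Nat.blt_eq] at hl
    have hlt : p < 31671 := (show ∀ p ∈ pinned, p < 31671 by decide) p hp
    rcases Nat.lt_or_ge (labOf p) 1 with h0 | h0
    · exact hc.2 p ⟨hlt, by omega⟩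
    · exact M.label_same hC (by norm_num) hlt
        (by rw [h1]; omega) h
  have h4 : M.ap c 4287 = 4287 := by
    have hh := M.cand_image (i := 4) (by norm_num) hc.1 (fun b hb => hp b hb)
    rw [hcand, List.mem_singleton] at hh
    exact hh
  have h83 : (83 : ℕ) ∈ M.fixed c := by
    have := (M.label_iff hC (show 4287 < 31671 by norm_num)).mp h4
    rwa [h5, er] at this
  exact M.eq_one fun q hq => M.all_of_pair hD hL (by norm_num) h83 hone dOneFive_ok q hq

theorem fixF_cand {c : X} (hc : M.FixF c) : M.ap c 6527 ∈ [6527, 6543, 8005] := by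
  have h := M.cand_image (i := 0) (by norm_num) hc.1 (fun b hb => hc.2 b ?_)
  · exact h
  · obtain ⟨k, hk, e⟩ : ∃ k, k < 324 ∧ fI k = b := by
      have hb' : b ∈ bases.take 5 := hb
      simp only [bases, List.take_succ_cons, List.take_zero, List.mem_cons, List.not_mem_nil,
        or_false] at hb'
      rcases hb' with rfl | rfl | rfl | rfl | rfl
      exacts [⟨0, by norm_num, by decide +kernel⟩, ⟨10, by norm_num, by decide +kernel⟩,
        ⟨2, by norm_num, by decide +kernel⟩, ⟨11, by norm_num, by decide +kernel⟩,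
        ⟨1, by norm_num, by decide +kernel⟩]
    exact e ▸ fI_spec hk

theorem evP_spec {gs tabs : List ℕ} {ops : List (ℕ × ℕ × ℕ)} (h : opsOK gs ops tabs = true)
    (h7 : gs.length ≤ 7) : ∀ f k, k < f → k < ops.length → ∀ b p, p < 31671 →
      evP ops f k b p = M.ap (if b then (ev ops f k)⁻¹ else ev ops f k) p := by
  simp only [opsOK, tabLt, Bool.and_eq_true, List.all_eq_true, List.mem_range, Nat.beq_eq,
    Nat.blt_eq] at h
  intro f
  induction f with
  | zero => intro k hk; omega
  | succ f ih =>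
    intro k hkf hk i p hp
    obtain ⟨-, hm⟩ := h.2 k hk
    rcases ho : ops.getD k (0, 0, 0) with ⟨t, a, b⟩
    rw [ho] at hm
    simp only [ev, evP, ho]
    rcases t with _ | _ | _ | t <;> simp only [Nat.zero_add, Nat.reduceAdd] at hm ⊢
    · simp only [Bool.and_eq_true, Nat.blt_eq, Nat.beq_eq] at hm
      have ha : a < 7 := by omega
      have hinv : (gen a)⁻¹ = gen a := by
        rw [M.gen_low ha]; exact inv_eq_of_mul_eq_one_right (M.d_mul_self _)
      rw [hinv, ite_self, M.gen_low ha, M.ap_lPts ha hp]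
    · simp only [Bool.and_eq_true, Nat.blt_eq] at hm
      have iha := ih a (by omega) (by omega)
      have ihb := ih b (by omega) (by omega)
      cases i
      · simp only [ifB_eq, cond_false, force_eq, Bool.false_eq_true, if_false, ap_mul]
        rw [iha _ _ hp, ihb _ _ (M.ap_lt _ hp)]
        simp
      · simp only [ifB_eq, cond_true, force_eq, if_true, mul_inv_rev, ap_mul]
        rw [ihb _ _ hp, iha _ _ (M.ap_lt _ hp)]
        simp
    · simp only [Bool.and_eq_true, Nat.blt_eq] at hm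
      rw [ih a (by omega) (by omega) _ _ hp]
      cases i <;> simp
    · simp only [Bool.and_eq_true, Nat.blt_eq] at hm
      have iha := ih a (by omega) (by omega)
      have ihb := ih b (by omega) (by omega)
      cases i
      · simp only [ifB_eq, cond_false, force_eq, Bool.false_eq_true, if_false, ap_mul]
        rw [ihb _ _ hp, iha _ _ (M.ap_lt _ hp), ihb _ _ (M.ap_lt _ (M.ap_lt _ hp)),
          iha _ _ (M.ap_lt _ (M.ap_lt _ (M.ap_lt _ hp)))]
        simp
      · simp only [ifB_eq, cond_true, force_eq, if_true, mul_inv_rev, inv_inv, ap_mul]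
        rw [iha _ _ hp, ihb _ _ (M.ap_lt _ hp), iha _ _ (M.ap_lt _ (M.ap_lt _ hp)),
          ihb _ _ (M.ap_lt _ (M.ap_lt _ (M.ap_lt _ hp)))]
        simp

/-- the element of the last layer -/
noncomputable def zE : X := ev zOps zOps.length zK

theorem gen7_tab {g : ℕ} (hg : g < 7) : M.Tab ((gTabs.take 7).getD g 0) (gen g) := by
  have e : (gTabs.take 7).getD g 0 = gTabs.getD g 0 := by
    interval_cases g <;> rfl
  rw [e]
  exact M.gen_tab (by omega)

theorem z_points : M.ap zE 6527 = 8005 ∧ M.ap zE 8005 = 6543 := by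
  obtain ⟨-, -, -, -, -, -, hz, -⟩ := uw_ok
  have h : ∀ p, p < 31671 → evP zOps zOps.length zK false p = M.ap zE p := fun p hp => by
    have := M.evP_spec zOps_ok (by decide) zOps.length zK hz hz false p hp
    simpa [zE] using this
  exact ⟨(h _ (by norm_num)).symm.trans z_first, (h _ (by norm_num)).symm.trans z_second⟩

theorem fixF_zE : M.FixF zE := by
  obtain ⟨-, -, -, -, -, -, hz, hall⟩ := uw_ok
  simp only [List.all_eq_true, List.mem_range, Bool.and_eq_true, Nat.beq_eq] at hall
  obtain ⟨hT, hD⟩ := M.ev_spec zOps_ok (n := 0) (fun g hg => ⟨M.gen7_tab hg,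
    by rw [DS_zero]; exact M.gen_mem (lt_of_lt_of_le hg (by decide))⟩) _ zK hz hz
  refine ⟨M.DS_le _ hD, fun q hq => ?_⟩
  obtain ⟨k, hk, rfl⟩ := M.inF_iff.mp hq
  exact ((hT k hk).2).trans (by rw [(hall k hk).2])

theorem fixF_cube {c : X} (hc : M.FixF c) : c * c * c = 1 := by
  obtain ⟨z1, z2⟩ := M.z_points
  have hz := M.fixF_zE
  have hzz := M.fixF_mul hz hz
  have z3 : zE * zE * zE = 1 := by
    refine M.fixF_eq_one (M.fixF_mul hzz hz) ?_
    rw [ap_mul, z1, ap_mul, z2]
    have h := M.fixF_cand (M.fixF_mul hzz hz)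
    rw [ap_mul, z1, ap_mul, z2] at h
    simp only [List.mem_cons, List.not_mem_nil, or_false] at h
    rcases h with h | h | h
    · exact h
    · exact absurd (M.ap_inj (h.trans z2.symm)) (by norm_num)
    · exact absurd (M.ap_inj (h.trans z1.symm)) (by norm_num)
  have key : ∀ b : X, M.FixF b → M.ap b 6527 = M.ap c 6527 → c = b := fun b hb e => by
    have := M.fixF_eq_one (M.fixF_mul (M.fixF_inv hb) hc)
      (by rw [ap_mul, ← e, ap_inv_ap])
    exact (inv_mul_eq_one.mp this).symm
  have h := M.fixF_cand hc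
  simp only [List.mem_cons, List.not_mem_nil, or_false] at h
  rcases h with h | h | h
  · rw [M.fixF_eq_one hc h, mul_one, mul_one]
  · rw [key _ hzz (by rw [h, ap_mul, z1, z2])]
    calc zE * zE * (zE * zE) * (zE * zE) = zE * zE * zE * (zE * zE * zE) := by group
      _ = 1 := by rw [z3, mul_one]
  · rw [key _ hz (by rw [z1, h]), z3]

theorem pair_mem {D : Subgroup X} (hDn : ∀ h ∈ M.N, ∀ x ∈ D, h * x * h⁻¹ ∈ D)
    (hu : ev hOps hOps.length uK ∈ D) : ∀ k, k < eqPairs.length →
      (eqPairs.getD k (0, 0, 0, 0)).1 < 324 ∧ (eqPairs.getD k (0, 0, 0, 0)).2.1 < 324 ∧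
      M.d (fI (eqPairs.getD k (0, 0, 0, 0)).1) * M.d (fI (eqPairs.getD k (0, 0, 0, 0)).2.1) ∈ D := by
  have hp := pairs_ok
  simp only [List.all_eq_true, List.mem_range, Bool.and_eq_true, Nat.blt_eq] at hp
  intro k
  induction k using Nat.strong_induction_on with
  | _ k ih =>
    intro hk
    obtain ⟨⟨ha, hc⟩, h⟩ := hp k hk
    rcases he : eqPairs.getD k (0, 0, 0, 0) with ⟨a, c, g, k'⟩
    rw [he] at ha hc h
    refine ⟨ha, hc, ?_⟩
    dsimp only at h ha hc ⊢
    split at h
    · rw [Nat.beq_eq] at h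
      obtain ⟨-, -, -, -, hu', -⟩ := uw_ok
      have e := (M.hOps_spec hu').1 a ha
      rw [← h, ← e.2, ← M.d_conj _ (fI_spec ha).1]
      set u := ev hOps hOps.length uK
      have e2 : M.d (fI a) * (u * M.d (fI a) * u⁻¹) = (M.d (fI a) * u * (M.d (fI a))⁻¹) * u⁻¹ := by
        rw [inv_eq_of_mul_eq_one_right (M.d_mul_self _)]; group
      rw [e2]
      exact D.mul_mem (hDn _ (M.dF_mem (fI_spec ha)) u hu) (D.inv_mem hu)
    · simp only [Bool.and_eq_true, Nat.blt_eq, Nat.beq_eq] at h
      obtain ⟨⟨⟨hk', hg⟩, ea⟩, ec⟩ := h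
      obtain ⟨ha', hc', hd⟩ := ih k' hk' (by omega)
      have := hDn _ (M.gen_mem hg) _ hd
      rw [show ∀ h x y : X, h * (x * y) * h⁻¹ = (h * x * h⁻¹) * (h * y * h⁻¹) by intros; group,
        M.d_conj _ (fI_spec ha').1, M.d_conj _ (fI_spec hc').1, M.gen_map hg ha',
        M.gen_map hg hc', ea, ec] at this
      exact this

theorem path_mem {D : Subgroup X} (hpair : ∀ k, k < eqPairs.length →
      M.d (fI (eqPairs.getD k (0, 0, 0, 0)).1) * M.d (fI (eqPairs.getD k (0, 0, 0, 0)).2.1) ∈ D) :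
    ∀ {l : List (ℕ × Bool)} {x t : ℕ}, pathOK l x t = true → M.d (fI x) * M.d (fI t) ∈ D := by
  have hassoc : ∀ a b c : X, a * b * (b * c) = a * (b * b) * c := by
    intros; simp only [mul_assoc]
  intro l
  induction l with
  | nil =>
    intro x t h
    simp only [pathOK, Nat.beq_eq] at h
    rw [h, d_mul_self]
    exact D.one_mem
  | cons e l ih =>
    obtain ⟨e, r⟩ := e
    intro x t h
    simp only [pathOK, Bool.and_eq_true, Nat.blt_eq] at h
    obtain ⟨he, h⟩ := h
    have hd := hpair e he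
    cases r
    · simp only [Bool.false_eq_true, if_false, Bool.and_eq_true, Nat.beq_eq] at h
      rw [h.1] at hd
      have := D.mul_mem hd (ih h.2)
      rwa [hassoc, d_mul_self, mul_one] at this
    · simp only [if_true, Bool.and_eq_true, Nat.beq_eq] at h
      rw [h.1] at hd
      have := D.mul_mem (D.inv_mem hd) (ih h.2)
      rwa [mul_inv_rev, inv_eq_of_mul_eq_one_right (M.d_mul_self _),
        inv_eq_of_mul_eq_one_right (M.d_mul_self _), hassoc, d_mul_self, mul_one] at this

end Mdl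

end Cfsg.Agent.H27.Fi23Max
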