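import Cfsg.Agent.H27.Fi23Max.Check

/-!
The tables of the operations.
-/

set_option autoImplicit false
set_option maxRecDepth 100000
set_option Elab.async false

namespace Cfsg.Agent.H27.Fi23Max

open Cfsg.Agent.H25.Fi23
open Cfsg.Agent.H45 (cget)

theorem hOps_ok : opsOK gTabs hOps hTabs = true := by decide +kernel

theorem lOps_ok : opsOK (gTabs.take 7) lOps lTabs = true := by decide +kernel

theorem zOps_ok : opsOK (gTabs.take 7) zOps zTabs = true := by decide +kernel

end Cfsg.Agent.H27.Fi23Max
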