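import Cfsg.Agent.H27.Fi23Max.Subgroup
import Cfsg.Agent.H27.Fi23Max.Ops

/-!
The operations on the generators and the layers of the derived series.
-/

set_option autoImplicit false
set_option maxRecDepth 100000

namespace Cfsg.Agent.H27.Fi23Max

open Cfsg.Agent.H25.Fi23 hiding H
open Cfsg.Agent.H45 (cget force force_eq)

/-- the value of an operation -/
noncomputable def ev (ops : List (ℕ × ℕ × ℕ)) : ℕ → ℕ → X
  | 0, _ => 1
  | f + 1, k =>
    match (ops.getD k (0, 0, 0)).1 with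
      | 0 => gen (ops.getD k (0, 0, 0)).2.1
      | 1 => ev ops f (ops.getD k (0, 0, 0)).2.2 * ev ops f (ops.getD k (0, 0, 0)).2.1
      | 2 => (ev ops f (ops.getD k (0, 0, 0)).2.1)⁻¹
      | _ => ev ops f (ops.getD k (0, 0, 0)).2.1 * ev ops f (ops.getD k (0, 0, 0)).2.2 *
          (ev ops f (ops.getD k (0, 0, 0)).2.1)⁻¹ * (ev ops f (ops.getD k (0, 0, 0)).2.2)⁻¹

namespace Mdl

variable (M : Mdl)

/-- the layers of the derived series -/
noncomputable def DS (k : ℕ) : Subgroup X := (derivedSeries M.N k).map M.N.subtype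

theorem DS_zero : M.DS 0 = M.N := by
  rw [DS, derivedSeries_zero, ← MonoidHom.range_eq_map, Subgroup.range_subtype]

theorem DS_succ (k : ℕ) : M.DS (k + 1) = ⁅M.DS k, M.DS k⁆ := by
  rw [DS, DS, derivedSeries_succ, Subgroup.map_commutator]

theorem DS_antitone : Antitone M.DS := fun _ _ h => Subgroup.map_mono (derivedSeries_antitone _ h)

theorem DS_le (k : ℕ) : M.DS k ≤ M.N := Subgroup.map_subtype_le _

theorem DS_conj {k : ℕ} {h x : X} (hh : h ∈ M.N) (hx : x ∈ M.DS k) : h * x * h⁻¹ ∈ M.DS k := by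
  rw [DS, Subgroup.mem_map] at hx
  obtain ⟨y, hy, rfl⟩ := hx
  exact ⟨⟨h, hh⟩ * y * ⟨h, hh⟩⁻¹, (derivedSeries_normal M.N k).conj_mem y hy ⟨h, hh⟩, rfl⟩

theorem DS_comm {k : ℕ} {x y : X} (hx : x ∈ M.DS k) (hy : y ∈ M.DS k) :
    x * y * x⁻¹ * y⁻¹ ∈ M.DS (k + 1) := by
  rw [DS_succ, ← commutatorElement_def]
  exact Subgroup.commutator_mem_commutator hx hy

/-- a table of an element on the set -/
def Tab (T : ℕ) (e : X) : Prop := ∀ i, i < 324 → cget T i < 324 ∧ M.ap e (fI i) = fI (cget T i)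

theorem gen_tab {g : ℕ} (hg : g < 10) : M.Tab (gTabs.getD g 0) (gen g) :=
  fun _ hi => ⟨(gTab_spec hg hi).1, M.gen_map hg hi⟩

theorem ev_spec {gs : List ℕ} {ops : List (ℕ × ℕ × ℕ)} {tabs : List ℕ} (h : opsOK gs ops tabs = true)
    {n : ℕ} (hgen : ∀ g, g < gs.length → M.Tab (gs.getD g 0) (gen g) ∧ gen g ∈ M.DS n) :
    ∀ f k, k < f → k < ops.length →
      M.Tab (tabs.getD k 0) (ev ops f k) ∧ ev ops f k ∈ M.DS (n + lvl ops f k) := by
  simp only [opsOK, tabLt, Bool.and_eq_true, List.all_eq_true, List.mem_range, Nat.beq_eq,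
    Nat.blt_eq] at h
  intro f
  induction f with
  | zero => intro k hk; omega
  | succ f ih =>
    intro k hkf hk
    obtain ⟨hlt, hm⟩ := h.2 k hk
    rcases ho : ops.getD k (0, 0, 0) with ⟨t, a, b⟩
    rw [ho] at hm
    simp only [ev, lvl, ho]
    rcases t with _ | _ | _ | t <;> simp only [Nat.zero_add, Nat.reduceAdd] at hm ⊢
    · simp only [Bool.and_eq_true, Nat.blt_eq, Nat.beq_eq] at hm
      obtain ⟨hT, hD⟩ := hgen a hm.1
      simp only [add_zero]
      exact ⟨by rw [hm.2]; exact hT, hD⟩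
    · simp only [Bool.and_eq_true, Nat.blt_eq, Nat.beq_eq, List.all_eq_true, List.mem_range] at hm
      obtain ⟨⟨ha, hb⟩, hT⟩ := hm
      obtain ⟨hTa, hDa⟩ := ih a (by omega) (by omega)
      obtain ⟨hTb, hDb⟩ := ih b (by omega) (by omega)
      refine ⟨fun i hi => ⟨hlt i hi, ?_⟩, ?_⟩
      · rw [ap_mul, (hTa i hi).2, (hTb _ (hTa i hi).1).2, hT i hi]
      · exact Subgroup.mul_mem _ (M.DS_antitone (Nat.add_le_add_left (min_le_right _ _) n) hDb)
          (M.DS_antitone (Nat.add_le_add_left (min_le_left _ _) n) hDa)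
    · simp only [Bool.and_eq_true, Nat.blt_eq, Nat.beq_eq, List.all_eq_true, List.mem_range] at hm
      obtain ⟨ha, hT⟩ := hm
      obtain ⟨hTa, hDa⟩ := ih a (by omega) (by omega)
      refine ⟨fun i hi => ⟨hlt i hi, ?_⟩, Subgroup.inv_mem _ hDa⟩
      have h2 := (hTa _ (hlt i hi)).2
      rw [hT i hi] at h2
      rw [← h2, ap_inv_ap]
    · simp only [Bool.and_eq_true, Nat.blt_eq, Nat.beq_eq, List.all_eq_true, List.mem_range] at hm
      obtain ⟨⟨ha, hb⟩, hT⟩ := hm
      obtain ⟨hTa, hDa⟩ := ih a (by omega) (by omega)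
      obtain ⟨hTb, hDb⟩ := ih b (by omega) (by omega)
      set e1 := ev ops f a
      set e2 := ev ops f b
      refine ⟨fun i hi => ⟨hlt i hi, ?_⟩, ?_⟩
      · have hj := hlt i hi
        have hsur : ∃ j, j < 324 ∧ fI i = M.ap (e2 * e1) (fI j) := by
          have hi' : InF (M.ap (e2 * e1)⁻¹ (fI i)) :=
            M.N_inF (M.N.inv_mem (M.N.mul_mem (M.DS_le _ hDb) (M.DS_le _ hDa))) (fI_spec hi)
          obtain ⟨j, hj, e⟩ := M.inF_iff.mp hi'
          exact ⟨j, hj, by rw [e, ap_ap_inv]⟩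
        obtain ⟨j, hj, e⟩ := hsur
        have hba : M.ap (e2 * e1) (fI j) = fI (cget (tabs.getD b 0) (cget (tabs.getD a 0) j)) := by
          rw [ap_mul, (hTa j hj).2, (hTb _ (hTa j hj).1).2]
        have hab : M.ap (e1 * e2) (fI j) = fI (cget (tabs.getD a 0) (cget (tabs.getD b 0) j)) := by
          rw [ap_mul, (hTb j hj).2, (hTa _ (hTb j hj).1).2]
        have hij : i = cget (tabs.getD b 0) (cget (tabs.getD a 0) j) :=
          fI_inj hi (hTb _ (hTa j hj).1).1 (e.trans hba)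
        calc M.ap (e1 * e2 * e1⁻¹ * e2⁻¹) (fI i)
            = M.ap (e1 * e2 * e1⁻¹ * e2⁻¹ * (e2 * e1)) (fI j) := by
              rw [M.ap_mul _ (e2 * e1), ← e]
          _ = M.ap (e1 * e2) (fI j) := by group
          _ = fI (cget (tabs.getD k 0) i) := by rw [hab, hij, hT j hj]
      · rw [← add_assoc]
        exact M.DS_comm (M.DS_antitone (Nat.add_le_add_left (min_le_left _ _) n) hDa)
          (M.DS_antitone (Nat.add_le_add_left (min_le_right _ _) n) hDb)

theorem hOps_spec {k : ℕ} (hk : k < hOps.length) :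
    M.Tab (hTabs.getD k 0) (ev hOps hOps.length k) ∧
      ev hOps hOps.length k ∈ M.DS (lvl hOps hOps.length k) := by
  have h := M.ev_spec hOps_ok (n := 0) (fun g hg => ⟨M.gen_tab hg,
    by rw [DS_zero]; exact M.gen_mem hg⟩) hOps.length k hk hk
  rwa [Nat.zero_add] at h

end Mdl

end Cfsg.Agent.H27.Fi23Max
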