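import Cfsg.Agent.H27.Fi23Max.Check

/-!
The 31671 transpositions of `Fi₂₃` numbered by the points of the table.
-/

set_option autoImplicit false
set_option maxRecDepth 100000

namespace Cfsg.Agent.H27.Fi23Max

open Cfsg.Agent.H25.Fi23
open Cfsg.Agent.H45 (evalW)

/-- A faithful action on the points and a transversal. -/
structure Mdl where
  /-- the action -/
  φ : X →* Equiv.Perm (Fin C31671.cert.n)
  act : Act C31671.cert_ok pres.e φ
  inj : Function.Injective φ
  stab : ∀ g : X, φ g ⟨0, n_pos⟩ = ⟨0, n_pos⟩ → g ∈ H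
  trans : ∀ i, ∃ g : X, φ g ⟨0, n_pos⟩ = i

theorem exists_mdl : Nonempty Mdl := by
  obtain ⟨φ, hA, hinj, -, F, hF0, hF, -⟩ := setup
  refine ⟨⟨φ, hA, hinj, fun g hg => ?_, fun i => ?_⟩⟩
  · have h : F (g • QuotientGroup.mk (1 : X)) = F (QuotientGroup.mk (1 : X)) := by
      rw [hF, hF0, hg]
    have h2 := F.injective h
    rw [show g • (QuotientGroup.mk (1 : X) : X ⧸ H) = QuotientGroup.mk g by
      simp [MulAction.Quotient.smul_mk]] at h2
    simpa using QuotientGroup.eq.mp h2.symm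
  · obtain ⟨g, hg⟩ := QuotientGroup.mk_surjective (F.symm i)
    refine ⟨g, ?_⟩
    have : F (g • QuotientGroup.mk (1 : X)) = i := by
      rw [show g • (QuotientGroup.mk (1 : X) : X ⧸ H) = QuotientGroup.mk g by
        simp [MulAction.Quotient.smul_mk], hg, Equiv.apply_symm_apply]
    rwa [hF, hF0] at this

theorem finite_X : Finite X := order_facts.1

/-- the transposition of a word -/
noncomputable def dW (w : List ℕ) : X :=
  evalW pres.e w * zEl * (evalW pres.e w)⁻¹

/-- a product of transpositions, to be applied in this order -/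
noncomputable def prodW : List (List ℕ) → X
  | [] => 1
  | w :: l => prodW l * dW w

namespace Mdl

variable (M : Mdl)

/-- the action on numbers -/
noncomputable def ap (g : X) (i : ℕ) : ℕ :=
  if h : i < C31671.cert.n then (M.φ g ⟨i, h⟩ : ℕ) else i

theorem ap_lt (g : X) {i : ℕ} (hi : i < 31671) : M.ap g i < 31671 := by
  rw [ap, dif_pos (show i < C31671.cert.n from hi)]
  exact Fin.isLt _

theorem ap_fin (g : X) {i : ℕ} (hi : i < C31671.cert.n) :
    M.ap g i = (M.φ g ⟨i, hi⟩ : ℕ) := dif_pos hi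

theorem ap_one (i : ℕ) : M.ap 1 i = i := by
  unfold ap
  split <;> simp

theorem ap_mul (g h : X) (i : ℕ) : M.ap (g * h) i = M.ap g (M.ap h i) := by
  by_cases hi : i < C31671.cert.n
  · rw [M.ap_fin _ hi, M.ap_fin _ hi, M.ap_fin _ (Fin.isLt _), map_mul, Equiv.Perm.mul_apply]
  · rw [ap, dif_neg hi, ap, ap, dif_neg hi, dif_neg hi]

theorem ap_inv_ap (g : X) (i : ℕ) : M.ap g⁻¹ (M.ap g i) = i := by
  rw [← ap_mul, inv_mul_cancel, ap_one]

theorem ap_ap_inv (g : X) (i : ℕ) : M.ap g (M.ap g⁻¹ i) = i := by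
  rw [← ap_mul, mul_inv_cancel, ap_one]

theorem ap_inj {g : X} {i j : ℕ} (h : M.ap g i = M.ap g j) : i = j := by
  rw [← M.ap_inv_ap g i, h, M.ap_inv_ap]

theorem eq_one {g : X} (h : ∀ i, i < 31671 → M.ap g i = i) : g = 1 := by
  refine M.inj ?_
  rw [map_one]
  refine Equiv.ext fun i => Fin.ext ?_
  have := h i i.isLt
  rw [M.ap_fin _ i.isLt] at this
  exact this

/-- a transporter from zero -/
noncomputable def r (i : ℕ) : X :=
  if h : i < C31671.cert.n then (M.trans ⟨i, h⟩).choose else 1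

theorem r_spec {i : ℕ} (hi : i < 31671) : M.ap (M.r i) 0 = i := by
  have hi' : i < C31671.cert.n := hi
  rw [r, dif_pos hi', M.ap_fin _ n_pos, (M.trans ⟨i, hi'⟩).choose_spec]

theorem stab_ap {g : X} (h : M.ap g 0 = 0) : g ∈ H := by
  rw [M.ap_fin _ n_pos] at h
  exact M.stab g (Fin.ext h)

/-- the transposition of a point -/
noncomputable def d (i : ℕ) : X := M.r i * zEl * (M.r i)⁻¹

theorem zEl_comm' {a : X} (ha : a ∈ H) : a * zEl = zEl * a := by
  rw [← centralizer_zEl] at ha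
  exact Subgroup.mem_centralizer_singleton_iff.mp ha

theorem d_conj (g : X) {i : ℕ} (hi : i < 31671) : g * M.d i * g⁻¹ = M.d (M.ap g i) := by
  set a := (M.r (M.ap g i))⁻¹ * g * M.r i with ha
  have h0 : M.ap a 0 = 0 := by
    rw [ha, ap_mul, ap_mul, M.r_spec hi]
    conv_lhs => arg 3; rw [← M.r_spec (M.ap_lt g hi)]
    exact M.ap_inv_ap _ _
  have hc := zEl_comm' (M.stab_ap h0)
  have e : g = M.r (M.ap g i) * a * (M.r i)⁻¹ := by rw [ha]; group
  unfold d
  calc g * (M.r i * zEl * (M.r i)⁻¹) * g⁻¹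
      = M.r (M.ap g i) * a * zEl * a⁻¹ * (M.r (M.ap g i))⁻¹ := by
        conv_lhs => rw [e]
        group
    _ = M.r (M.ap g i) * zEl * (M.r (M.ap g i))⁻¹ := by rw [mul_assoc _ a, hc]; group

theorem d_zero : M.d 0 = zEl := by
  have hc := zEl_comm' (M.stab_ap (M.r_spec (show (0 : ℕ) < 31671 by norm_num)))
  rw [d, hc, mul_inv_cancel_right]

theorem zEl_mul_self (M : Mdl) : zEl * zEl = 1 := zEl_sq M.act M.inj

theorem d_mul_self (i : ℕ) : M.d i * M.d i = 1 := by
  have h : M.r i * zEl * (M.r i)⁻¹ * (M.r i * zEl * (M.r i)⁻¹) =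
      M.r i * (zEl * zEl) * (M.r i)⁻¹ := by group
  rw [d, h, M.zEl_mul_self, mul_one, mul_inv_cancel]

theorem closure_d : Subgroup.closure {x : X | ∃ i, i < 31671 ∧ M.d i = x} = ⊤ := by
  obtain ⟨⟨-, -, hcl⟩, -⟩ := three_transposition_class
  rw [eq_top_iff, ← hcl]
  refine Subgroup.closure_mono ?_
  intro x hx
  obtain ⟨c, rfl⟩ := isConj_iff.mp hx
  exact ⟨_, M.ap_lt c (show (0 : ℕ) < 31671 by norm_num),
    by rw [← M.d_conj c (by norm_num), d_zero]⟩

theorem ap_evalW_inv {w : List ℕ} (hw : ∀ l ∈ w, l < 10) {i : ℕ} (hi : i < 31671) :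
    M.ap (evalW pres.e w)⁻¹ i = walkV C31671.cert.t w i := by
  rw [M.ap_fin _ (show i < C31671.cert.n from hi), map_inv]
  exact word_apply M.act hw ⟨i, hi⟩

theorem ap_evalW {w : List ℕ} (hw : ∀ l ∈ w, l < 10) {i : ℕ} (hi : i < 31671) :
    M.ap (evalW pres.e w) i = walkV C31671.cert.t w.reverse i := by
  rw [← M.ap_evalW_inv (w := w.reverse) (fun l hl => hw l (List.mem_reverse.mp hl)) hi,
    evalW_reverse, inv_inv]

theorem ap_zEl {i : ℕ} (hi : i < 31671) : M.ap zEl i = uget C31671.colZ i := by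
  have h := zEl_apply M.act ⟨i, hi⟩
  rw [← inv_eq_of_mul_eq_one_right M.zEl_mul_self, M.ap_fin _ (show i < C31671.cert.n from hi),
    map_inv]
  exact h

theorem ap_dW {w : List ℕ} (hw : ∀ l ∈ w, l < 10) {i : ℕ} (hi : i < 31671) :
    M.ap (dW w) i = tf w i := by
  have h1 := M.ap_lt (evalW pres.e w)⁻¹ hi
  have h2 := M.ap_lt zEl h1
  rw [dW, ap_mul, ap_mul, M.ap_evalW hw h2, M.ap_zEl h1, M.ap_evalW_inv hw hi, tf_eq]

theorem good_spec {p : ℕ} {w : List ℕ} (h : good p w = true) :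
    p < 31671 ∧ (∀ l ∈ w, l < 10) ∧ dW w = M.d p := by
  simp only [good, Bool.and_eq_true, List.all_eq_true, H45.blt_iff, Nat.beq_eq] at h
  obtain ⟨⟨hw, hp⟩, h0⟩ := h
  refine ⟨hp, hw, ?_⟩
  rw [← M.ap_evalW hw (by norm_num)] at h0
  rw [dW, ← M.d_zero, M.d_conj _ (by norm_num), h0]

theorem tf_conj {p : ℕ} {w : List ℕ} (h : good p w = true) {i : ℕ} (hi : i < 31671) :
    M.ap (M.d p) i = tf w i := by
  obtain ⟨-, hw, e⟩ := M.good_spec h
  rw [← e, M.ap_dW hw hi]

theorem center_bot : Subgroup.center X = ⊥ := by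
  have := finite_X
  have hs := Cfsg.Agent.H25.Fi23.isSimple
  rcases hs.eq_bot_or_eq_top_of_normal (Subgroup.center X) inferInstance with h | h
  · exact h
  exfalso
  have hH : H = ⊤ := by
    rw [← centralizer_zEl, eq_top_iff]
    intro g _
    exact Subgroup.mem_centralizer_singleton_iff.mpr
      ((Subgroup.mem_center_iff.mp (h ▸ Subgroup.mem_top zEl) g))
  have := H_index
  rw [hH, Subgroup.index_top] at this
  norm_num at this

end Mdl

end Cfsg.Agent.H27.Fi23Max
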