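import Cfsg.Agent.H27.Fi23Max.Closure

/-!
The stabiliser of the set of 324 transpositions is a maximal subgroup of `Fi₂₃`.
-/

set_option autoImplicit false
set_option maxRecDepth 100000

namespace Cfsg.Agent.H27.Fi23Max

open Cfsg.Agent.H25.Fi23 hiding H
open Cfsg.Agent.H45 (cget)

namespace Mdl

variable (M : Mdl)

/-- the stabiliser of the set -/
noncomputable def N : Subgroup X where
  carrier := {g | ∀ q, q < 31671 → (labOf (M.ap g q) = 0 ↔ labOf q = 0)}
  one_mem' q _ := by rw [ap_one]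
  mul_mem' {g h} hg hh q hq := by rw [ap_mul, hg _ (M.ap_lt h hq), hh q hq]
  inv_mem' {g} hg q hq := by
    have h := hg _ (M.ap_lt g⁻¹ hq)
    rw [ap_ap_inv] at h
    exact h.symm

theorem mem_N_of {g : X} (h : ∀ k, k < 324 → labOf (M.ap g (fI k)) = 0) : g ∈ M.N := by
  classical
  set s := (Finset.range 31671).filter fun q => labOf q = 0 with hs
  have hin : ∀ q ∈ s, M.ap g q ∈ s := by
    intro q hq
    rw [hs, Finset.mem_filter, Finset.mem_range] at hq
    obtain ⟨k, hk, rfl⟩ := M.inF_iff.mp hq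
    rw [hs, Finset.mem_filter, Finset.mem_range]
    exact ⟨M.ap_lt g hq.1, h k hk⟩
  have e : s.image (M.ap g) = s := by
    refine Finset.eq_of_subset_of_card_le ?_ ?_
    · intro y hy
      obtain ⟨x, hx, rfl⟩ := Finset.mem_image.mp hy
      exact hin x hx
    · rw [Finset.card_image_of_injective _ fun _ _ => M.ap_inj]
  intro q hq
  refine ⟨fun hl => ?_, fun hl => ?_⟩
  · have hm : M.ap g q ∈ s.image (M.ap g) := by
      rw [e, hs, Finset.mem_filter, Finset.mem_range]
      exact ⟨M.ap_lt g hq, hl⟩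
    obtain ⟨x, hx, hxe⟩ := Finset.mem_image.mp hm
    rw [M.ap_inj hxe, hs, Finset.mem_filter] at hx
    exact hx.2
  · have hm : q ∈ s := by
      rw [hs, Finset.mem_filter, Finset.mem_range]
      exact ⟨hq, hl⟩
    have := hin q hm
    rw [hs, Finset.mem_filter] at this
    exact this.2

theorem N_inF {g : X} (hg : g ∈ M.N) {q : ℕ} (hq : InF q) : InF (M.ap g q) :=
  ⟨M.ap_lt g hq.1, (hg q hq.1).mpr hq.2⟩

theorem gen_mem {g : ℕ} (hg : g < 10) : gen g ∈ M.N := by
  refine M.mem_N_of fun k hk => ?_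
  rw [M.gen_map hg hk]
  exact (fI_spec (gTab_spec hg hk).1).2

theorem dl_mem {s : ℕ} (hs : s < 7) : M.d (lPts.getD s 0) ∈ M.N := by
  rw [← M.gen_low hs]
  exact M.gen_mem (by omega)

theorem dF_mem {q : ℕ} (hq : InF q) : M.d q ∈ M.N := by
  have hS : M.ClosedL {p | p < 31671 ∧ M.d p ∈ M.N} := by
    rintro s hs p hp ⟨-, hd⟩
    refine ⟨M.ap_lt _ hp, ?_⟩
    rw [← M.d_conj _ hp]
    exact M.N.mul_mem (M.N.mul_mem (M.dl_mem hs) hd) (M.N.inv_mem (M.dl_mem hs))
  exact (M.label_same hS (lPts_lt (show 0 < 7 by norm_num)) hq.1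
    ((lPts_inF (by norm_num)).2.trans hq.2.symm) ⟨lPts_lt (by norm_num), M.dl_mem (by norm_num)⟩).2

theorem N_ne_top : M.N ≠ ⊤ := by
  intro h
  have h1 : M.r 1 ∈ M.N := h ▸ Subgroup.mem_top _
  have := (h1 0 (by norm_num)).mpr zero_inF.2
  rw [M.r_spec (by norm_num), reps_eq.2.2] at this
  exact absurd this (by norm_num)

theorem map_label {g : ℕ} (hg : g < 10) {S : Set ℕ} (hC : M.ClosedL S)
    (hH : ∀ h ∈ M.N, ∀ q, q < 31671 → q ∈ S → M.ap h q ∈ S)
    {a l : ℕ} (ha : a < 31671) (hl : l < 6) (he : Nat.beq (labOf (apW (gWs g) a)) l = true)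
    (haS : a ∈ S) : reps.getD l 99999 ∈ S := by
  have h := hH _ (M.gen_mem hg) a ha haS
  have h2 := (M.label_iff hC (M.ap_lt _ ha)).mp h
  rwa [M.ap_gen hg ha, Nat.eq_of_beq_eq_true he] at h2

theorem isCoatom_N : IsCoatom M.N := by
  refine ⟨M.N_ne_top, fun K hK => ?_⟩
  obtain ⟨g, hgK, hgN⟩ := SetLike.exists_of_lt hK
  have hex : ∃ k, k < 324 ∧ labOf (M.ap g (fI k)) ≠ 0 := by
    by_contra hne
    push Not at hne
    exact hgN (M.mem_N_of hne)
  obtain ⟨k, hk, hne⟩ := hex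
  set S : Set ℕ := {q | q < 31671 ∧ M.d q ∈ K} with hS
  have hSH : ∀ h ∈ K, ∀ q, q < 31671 → q ∈ S → M.ap h q ∈ S := by
    rintro h hh q hq ⟨-, hd⟩
    refine ⟨M.ap_lt h hq, ?_⟩
    rw [← M.d_conj h hq]
    exact K.mul_mem (K.mul_mem hh hd) (K.inv_mem hh)
  have hD : M.ClosedD S := fun a b _ hb ha hbS => hSH _ ha.2 b hb hbS
  have hF : ∀ q, InF q → q ∈ S := fun q hq => ⟨hq.1, hK.le (M.dF_mem hq)⟩
  have hL : ∀ s, s < 7 → lPts.getD s 0 ∈ S := fun s hs => hF _ (lPts_inF hs)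
  have hC := M.seven_closed hD hL
  have hH : ∀ h ∈ M.N, ∀ q, q < 31671 → q ∈ S → M.ap h q ∈ S := fun h hh => hSH h (hK.le hh)
  set p := M.ap g (fI k) with hp
  have hpS : p ∈ S := hSH g hgK _ (fI_spec hk).1 (hF _ (fI_spec hk))
  have hall : ∀ q, q < 31671 → q ∈ S := by
    have hplt : p < 31671 := hpS.1
    by_cases h2 : labOf p = 2
    · exact M.all_of_two hD hL hplt h2 hpS
    have hr := (M.label_iff hC hplt).mp hpS
    obtain ⟨m35, m54, m41, m14, m43⟩ := maps_ok
    obtain ⟨er, -, -⟩ := reps_eq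
    have f35 : 28 ∈ S → 83 ∈ S := fun h => by
      have := M.map_label (show 7 < 10 by norm_num) hC hH (by norm_num) (by norm_num) m35 h
      rwa [er] at this
    have f54 : 83 ∈ S → 30 ∈ S := fun h => by
      have := M.map_label (show 7 < 10 by norm_num) hC hH (by norm_num) (by norm_num) m54 h
      rwa [er] at this
    have f41 : 30 ∈ S → 1 ∈ S := fun h => by
      have := M.map_label (show 9 < 10 by norm_num) hC hH (by norm_num) (by norm_num) m41 h
      rwa [er] at this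
    have f14 : 1 ∈ S → 30 ∈ S := fun h => by
      have := M.map_label (show 9 < 10 by norm_num) hC hH (by norm_num) (by norm_num) m14 h
      rwa [er] at this
    have f43 : 30 ∈ S → 28 ∈ S := fun h => by
      have := M.map_label (show 7 < 10 by norm_num) hC hH (by norm_num) (by norm_num) m43 h
      rwa [er] at this
    have h130 : (1 : ℕ) ∈ S ∧ 30 ∈ S := by
      have h6 := labOf_lt hplt
      rw [er] at hr
      interval_cases hl : labOf p
      · exact absurd rfl hne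
      · exact ⟨hr, f14 hr⟩
      · exact absurd rfl h2
      · exact ⟨f41 (f54 (f35 hr)), f54 (f35 hr)⟩
      · exact ⟨f41 hr, hr⟩
      · exact ⟨f41 (f54 hr), f54 hr⟩
    exact M.all_of_pair hD hL (by norm_num) (f43 h130.2) h130.1 dOneThree_ok
  rw [eq_top_iff, ← M.closure_d, Subgroup.closure_le]
  rintro _ ⟨i, hi, rfl⟩
  exact (hall i hi).2

end Mdl

end Cfsg.Agent.H27.Fi23Max
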